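import Groth.Agent.Lib.GrpLim14.Stage
import Groth.Prelude

/-!
# Torsors over a limit
-/

set_option autoImplicit false
set_option backward.isDefEq.respectTransparency false
set_option linter.style.haveILetI false
universe u

open CategoryTheory CategoryTheory.Limits AlgebraicGeometry
open MonoidalCategory CartesianMonoidalCategory

noncomputable section

namespace GrothLib.GrpLim14

variable {S S' : Scheme.{u}}

/-- The comparison map of an action commutes with base change. -/
theorem isIso_shear_iff (g : S' ⟶ S) {A B C : Over S} (a : A ⊗ B ⟶ C) :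
    IsIso (lift (Functor.LaxMonoidal.μ (Over.pullback g) A B ≫ (Over.pullback g).map a)
      (snd (Red.bc g A) (Red.bc g B))) ↔ IsIso ((Over.pullback g).map (lift a (snd A B))) := by
  haveI : IsIso (Functor.LaxMonoidal.μ (Over.pullback g) A B) :=
    inferInstanceAs (IsIso (Functor.Monoidal.μIso (Over.pullback g) A B).hom)
  haveI : IsIso (Functor.LaxMonoidal.μ (Over.pullback g) C B) :=
    inferInstanceAs (IsIso (Functor.Monoidal.μIso (Over.pullback g) C B).hom)
  have key : lift (Functor.LaxMonoidal.μ (Over.pullback g) A B ≫ (Over.pullback g).map a)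
      (snd (Red.bc g A) (Red.bc g B)) ≫ Functor.LaxMonoidal.μ (Over.pullback g) C B =
      Functor.LaxMonoidal.μ (Over.pullback g) A B ≫ (Over.pullback g).map (lift a (snd A B)) := by
    rw [← Functor.Monoidal.lift_μ (F := Over.pullback g) a (snd A B), ← Category.assoc]
    congr 1
    apply CartesianMonoidalCategory.hom_ext
    · simp
    · simp only [lift_snd, Category.assoc, Functor.Monoidal.μ_snd]
  rw [← isIso_comp_right_iff _ (Functor.LaxMonoidal.μ (Over.pullback g) C B), key, isIso_comp_left_iff]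

/-- Having a covering which lifts to a scheme. -/
def HasCoverLift (X : Over S) : Prop :=
  ∃ (Z : Scheme.{u}) (v : Z ⟶ S) (w : Z ⟶ X.left), w ≫ X.hom = v ∧
    Flat v ∧ Surjective v ∧ LocallyOfFinitePresentation v ∧ QuasiCompact v ∧ QuasiSeparated v

theorem HasCoverLift.map {X : Over S} (h : HasCoverLift X) {g : S' ⟶ S} :
    HasCoverLift ((Over.pullback g).obj X) := by
  obtain ⟨Z, v, w, hw, _, _, _, _, _⟩ := h
  exact ⟨pullback v g, pullback.snd v g, ((Over.pullback g).map (Over.homMk w hw : Over.mk v ⟶ X)).left,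
    Over.w _, inferInstance, MorphismProperty.pullback_snd (P := @Surjective) v g ‹_›, inferInstance,
    inferInstance, inferInstance⟩

theorem HasCoverLift.of_hom {X Y : Over S} (f : X ⟶ Y) (h : HasCoverLift X) : HasCoverLift Y := by
  obtain ⟨Z, v, w, hw, h⟩ := h
  exact ⟨Z, v, w ≫ f.left, by rw [Category.assoc, Over.w f, hw], h⟩

theorem prop_hom_iff (P : MorphismProperty Scheme.{u}) [P.RespectsIso] (g : S' ⟶ S) (H : Over S) :
    P ((Over.pullback g).map (toUnit H)).left ↔ P ((Over.pullback g).obj H).hom := by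
  rw [← Over.w ((Over.pullback g).map (toUnit H))]
  haveI : IsIso ((Over.pullback g).obj (𝟙_ (Over S))).hom := by
    change IsIso (pullback.snd (𝟙 S) g)
    infer_instance
  rw [MorphismProperty.cancel_right_of_respectsIso P]

variable {I : Type u} [SmallCategory I] (D : I ⥤ Scheme.{u}) {c : Cone D} (hc : IsLimit c) [IsCofiltered I]
  [∀ (i i' : I) (f : i ⟶ i'), IsAffineHom (D.map f)] [∀ i, CompactSpace (D.obj i)]
  [∀ i, QuasiSeparatedSpace (D.obj i)]

include hc in
/-- A covering lift over the limit gives one over a stage. -/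
theorem exists_coverLift {j : I} (X : Over (D.obj j)) [LocallyOfFinitePresentation X.hom]
    (h : HasCoverLift ((Over.pullback (c.π.app j)).obj X)) :
    ∃ (i : I) (f : i ⟶ j), HasCoverLift ((Over.pullback (D.map f)).obj X) := by
  obtain ⟨Z, v, w, hw, _, _, _, _, _⟩ := h
  let ZS : Over c.pt := Over.mk v
  haveI : LocallyOfFinitePresentation ZS.hom := ‹LocallyOfFinitePresentation v›
  haveI : QuasiCompact ZS.hom := ‹QuasiCompact v›
  haveI : QuasiSeparated ZS.hom := ‹QuasiSeparated v›
  obtain ⟨i₁, H, φ, _, _, _⟩ := exists_model_over ZS hc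
  let k := IsCofiltered.min i₁ j
  let a := IsCofiltered.minToLeft i₁ j
  let b := IsCofiltered.minToRight i₁ j
  let H₁ := (Over.pullback (D.map a)).obj H
  let X₁ := (Over.pullback (D.map b)).obj X
  obtain ⟨_, _, _⟩ := fp_map (D.map a) H
  haveI : LocallyOfFinitePresentation X₁.hom := inferInstanceAs (LocallyOfFinitePresentation (pullback.snd _ _))
  let φ₁ : ZS ≅ (Over.pullback (c.π.app k)).obj H₁ := shiftIso ZS a φ
  let u : (Over.pullback (c.π.app k)).obj H₁ ⟶ (Over.pullback (c.π.app k)).obj X₁ :=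
    φ₁.inv ≫ Over.homMk w hw ≫ (E (c.w b) X).inv
  obtain ⟨k₂, g, u₂, -⟩ := exists_descend D hc H₁ X₁ u
  obtain ⟨_, _, _⟩ := fp_map (D.map g) H₁
  let H₂ := (Over.pullback (D.map g)).obj H₁
  have hFH : ∀ (P : MorphismProperty Scheme.{u}) [P.RespectsIso], P v →
      P ((Over.pullback (c.π.app k₂)).obj H₂).hom := by
    intro P _ hP
    have e : ((Over.pullback (c.π.app k₂)).obj H₂).hom = (shiftIso ZS g φ₁).inv.left ≫ v :=
      (Over.w (shiftIso ZS g φ₁).inv).symm
    rw [e, MorphismProperty.cancel_left_of_respectsIso P]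
    exact hP
  haveI : LocallyOfFinitePresentation (𝟙_ (Over (D.obj k₂))).hom := inferInstanceAs (LocallyOfFinitePresentation (𝟙 (D.obj k₂)))
  haveI : QuasiCompact (𝟙_ (Over (D.obj k₂))).hom := inferInstanceAs (QuasiCompact (𝟙 (D.obj k₂)))
  haveI : QuasiSeparated (𝟙_ (Over (D.obj k₂))).hom := inferInstanceAs (QuasiSeparated (𝟙 (D.obj k₂)))
  haveI : Flat ((Over.pullback (c.π.app k₂)).map (toUnit H₂)).left :=
    (prop_hom_iff @Flat _ _).2 (hFH @Flat ‹_›)
  haveI : Surjective ((Over.pullback (c.π.app k₂)).map (toUnit H₂)).left :=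
    (prop_hom_iff @Surjective _ _).2 (hFH @Surjective ‹_›)
  obtain ⟨k₃, g₃, h₃⟩ := exists_flat_of_map D hc (toUnit H₂)
  obtain ⟨k₄, g₄, h₄⟩ := exists_surjective_of_map D hc (toUnit H₂)
  obtain ⟨k₅, r₃, r₄, hr⟩ := IsCofiltered.cospan g₃ g₄
  let q := r₃ ≫ g₃
  have h₃' := prop_map_comp @Flat (D.map_comp r₃ g₃).symm (toUnit H₂) h₃
  have h₄' := prop_map_comp @Surjective ((D.map_comp r₄ g₄).symm.trans (congrArg D.map hr.symm)) (toUnit H₂) h₄
  obtain ⟨a', b', d'⟩ := fp_map (D.map q) H₂
  refine ⟨k₅, (q ≫ g) ≫ b, ?_⟩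
  have hl : HasCoverLift ((Over.pullback (D.map q)).obj ((Over.pullback (D.map g)).obj X₁)) :=
    ⟨((Over.pullback (D.map q)).obj H₂).left, ((Over.pullback (D.map q)).obj H₂).hom,
      ((Over.pullback (D.map q)).map u₂).left, Over.w _, (prop_hom_iff @Flat _ _).1 h₃',
      (prop_hom_iff @Surjective _ _).1 h₄', a', b', d'⟩
  exact (hl.of_hom (E (D.map_comp q g).symm X₁).hom).of_hom (E (D.map_comp (q ≫ g) b).symm X).hom

include hc in
/-- **Being a torsor descends to a stage.** -/
theorem torsor_iff {j : I} {G X : Over (D.obj j)} (a : G ⊗ X ⟶ X)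
    [LocallyOfFinitePresentation G.hom] [QuasiCompact G.hom] [QuasiSeparated G.hom]
    [LocallyOfFinitePresentation X.hom] [QuasiCompact X.hom] [QuasiSeparated X.hom] :
    (IsIso ((Over.pullback (c.π.app j)).map (lift a (snd G X))) ∧ HasCoverLift ((Over.pullback (c.π.app j)).obj X)) ↔
      ∃ (i : I) (f : i ⟶ j), IsIso ((Over.pullback (D.map f)).map (lift a (snd G X))) ∧
        HasCoverLift ((Over.pullback (D.map f)).obj X) := by
  constructor
  · rintro ⟨_, h2⟩
    haveI : LocallyOfFinitePresentation (G ⊗ X).hom := by rw [Over.tensorObj_hom]; infer_instance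
    haveI : QuasiCompact (G ⊗ X).hom := by rw [Over.tensorObj_hom]; infer_instance
    haveI : QuasiSeparated (G ⊗ X).hom := by rw [Over.tensorObj_hom]; infer_instance
    haveI : LocallyOfFinitePresentation (X ⊗ X).hom := by rw [Over.tensorObj_hom]; infer_instance
    haveI : QuasiCompact (X ⊗ X).hom := by rw [Over.tensorObj_hom]; infer_instance
    haveI : QuasiSeparated (X ⊗ X).hom := by rw [Over.tensorObj_hom]; infer_instance
    obtain ⟨k₁, f₁, h₁⟩ := exists_isIso_of_map D hc (lift a (snd G X))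
    obtain ⟨k₂, f₂, h₂⟩ := exists_coverLift D hc X h2
    obtain ⟨i, r₁, r₂, hr⟩ := IsCofiltered.cospan f₁ f₂
    refine ⟨i, r₁ ≫ f₁, isIso_map_comp (D.map_comp r₁ f₁).symm _, ?_⟩
    exact h₂.map.of_hom (E ((D.map_comp r₂ f₂).symm.trans (congrArg D.map hr.symm)) X).hom
  · rintro ⟨i, f, _, h2⟩
    exact ⟨isIso_map_comp (c.w f) _, h2.map.of_hom (E (c.w f) X).hom⟩

end GrothLib.GrpLim14
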