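import Groth.Agent.Lib.GrpLim14.Basic
import Groth.Prelude.Def_AlgGrp

/-!
# Monomorphisms, normal and central subgroups over a limit
-/

set_option autoImplicit false
set_option backward.isDefEq.respectTransparency false
set_option linter.style.haveILetI false
universe u

open CategoryTheory CategoryTheory.Limits AlgebraicGeometry
open MonoidalCategory CartesianMonoidalCategory MonObj GrpObj

noncomputable section

namespace GrothLib.GrpLim14

variable {S₁ S₂ S₃ : Scheme.{u}}

theorem map_E {f : S₂ ⟶ S₁} {g : S₃ ⟶ S₂} {h : S₃ ⟶ S₁} (hh : g ≫ f = h) {A B : Over S₁} (w : A ⟶ B) :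
    (Over.pullback g).map ((Over.pullback f).map w) =
      (E hh A).hom ≫ (Over.pullback h).map w ≫ (E hh B).inv := by
  rw [← Category.assoc, Iso.eq_comp_inv]
  refine Over.OverMorphism.ext (pullback.hom_ext ?_ ?_)
  · rw [Over.comp_left, Over.comp_left, Category.assoc, Category.assoc, E_hom_fst]
    simp only [Over.pullback_map_left, pullback.lift_fst, pullback.lift_fst_assoc, Category.assoc]
    rw [reassoc_of% (E_hom_fst hh A)]
  · exact (Over.w ((Over.pullback g).map ((Over.pullback f).map w) ≫ (E hh B).hom)).trans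
      (Over.w ((E hh A).hom ≫ (Over.pullback h).map w)).symm

theorem map_E' {f : S₂ ⟶ S₁} {g : S₃ ⟶ S₂} {h : S₃ ⟶ S₁} (hh : g ≫ f = h) {A B : Over S₁} (w : A ⟶ B) :
    (Over.pullback h).map w =
      (E hh A).inv ≫ (Over.pullback g).map ((Over.pullback f).map w) ≫ (E hh B).hom := by
  rw [map_E hh]
  simp

/-- Equalities are stable under base change. -/
theorem map_eq_of_comp {f : S₂ ⟶ S₁} {g : S₃ ⟶ S₂} {h : S₃ ⟶ S₁} (hh : g ≫ f = h) {A B : Over S₁}
    {u v : A ⟶ B} (e : (Over.pullback f).map u = (Over.pullback f).map v) :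
    (Over.pullback h).map u = (Over.pullback h).map v := by
  rw [map_E' hh u, map_E' hh v, e]

/-- The base change of `w` factors through that of `u`. -/
def Factors (f : S₂ ⟶ S₁) {A B C : Over S₁} (u : B ⟶ C) (w : A ⟶ C) : Prop :=
  ∃ m : (Over.pullback f).obj A ⟶ (Over.pullback f).obj B, m ≫ (Over.pullback f).map u = (Over.pullback f).map w

theorem Factors.of_comp {f : S₂ ⟶ S₁} {g : S₃ ⟶ S₂} {h : S₃ ⟶ S₁} (hh : g ≫ f = h) {A B C : Over S₁}
    {u : B ⟶ C} {w : A ⟶ C} (e : Factors f u w) : Factors h u w := by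
  obtain ⟨m, hm⟩ := e
  refine ⟨(E hh A).inv ≫ (Over.pullback g).map m ≫ (E hh B).hom, ?_⟩
  rw [map_E' hh u, map_E' hh w, ← hm, Functor.map_comp]
  simp

section Grp

variable {G H : Over S₁} [GrpObj G] [GrpObj H]

/-- The universal conjugate. -/
def conj (u : H ⟶ G) : G ⊗ H ⟶ G := fst G H * (snd G H ≫ u) * (fst G H)⁻¹

theorem lift_conj (u : H ⟶ G) {T : Over S₁} (g : T ⟶ G) (n : T ⟶ H) :
    lift g n ≫ conj u = g * (n ≫ u) * g⁻¹ := by
  simp only [conj, MonObj.comp_mul, GrpObj.comp_inv, lift_fst, lift_snd_assoc]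

theorem isNormalHom_iff (u : H ⟶ G) : AlgGrp.IsNormalHom u ↔ ∃ m : G ⊗ H ⟶ H, m ≫ u = conj u := by
  constructor
  · intro h
    obtain ⟨m, hm⟩ := h (G ⊗ H) (fst G H) (snd G H)
    exact ⟨m, hm.symm⟩
  · rintro ⟨m, hm⟩ T g n
    exact ⟨lift g n ≫ m, by rw [Category.assoc, hm, lift_conj]⟩

variable (f : S₂ ⟶ S₁)

theorem μ_conj (u : H ⟶ G) : Functor.LaxMonoidal.μ (Over.pullback f) G H ≫ (Over.pullback f).map (conj u) =
    conj ((Over.pullback f).map u) := by
  simp only [conj, Functor.map_mul, Functor.map_inv', MonObj.comp_mul, GrpObj.comp_inv, Functor.map_comp,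
    Functor.Monoidal.μ_fst, Functor.Monoidal.μ_snd_assoc]

theorem isNormalHom_map_iff (u : H ⟶ G) :
    AlgGrp.IsNormalHom ((Over.pullback f).map u) ↔ Factors f u (conj u) := by
  rw [isNormalHom_iff]
  constructor
  · rintro ⟨m, hm⟩
    refine ⟨inv (Functor.LaxMonoidal.μ (Over.pullback f) G H) ≫ m, ?_⟩
    rw [Category.assoc, hm, ← μ_conj, IsIso.inv_hom_id_assoc]
  · rintro ⟨m, hm⟩
    exact ⟨Functor.LaxMonoidal.μ (Over.pullback f) G H ≫ m, by rw [Category.assoc, hm, μ_conj]⟩

theorem central_map_iff (u : H ⟶ G) :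
    (∀ (T : Over S₂) (g : T ⟶ Red.bc f G) (n : T ⟶ Red.bc f H),
      g * (n ≫ (Over.pullback f).map u) = (n ≫ (Over.pullback f).map u) * g) ↔
    (Over.pullback f).map (fst G H * (snd G H ≫ u)) = (Over.pullback f).map ((snd G H ≫ u) * fst G H) := by
  rw [← cancel_epi (Functor.LaxMonoidal.μ (Over.pullback f) G H)]
  simp only [Functor.map_mul, MonObj.comp_mul, Functor.map_comp, Functor.Monoidal.μ_fst,
    Functor.Monoidal.μ_snd_assoc]
  constructor
  · intro h
    exact h _ (fst _ _) (snd _ _)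
  · intro h T g n
    have h2 := congrArg (lift g n ≫ ·) h
    simp only [MonObj.comp_mul, lift_fst, lift_snd_assoc] at h2
    exact h2

end Grp

theorem mono_map_iff (f : S₂ ⟶ S₁) {A B P : Over S₁} {u : A ⟶ B} {p q : P ⟶ A} (sq : IsPullback p q u u) :
    Mono ((Over.pullback f).map u) ↔ (Over.pullback f).map p = (Over.pullback f).map q := by
  have sq' := sq.map (Over.pullback f)
  constructor
  · intro h
    exact (cancel_mono ((Over.pullback f).map u)).1 sq'.w
  · intro h
    refine ⟨fun a b hab => ?_⟩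
    exact ((sq'.lift_fst a b hab).symm.trans (congrArg (sq'.lift a b hab ≫ ·) h)).trans (sq'.lift_snd a b hab)

variable {I : Type u} [SmallCategory I] (D : I ⥤ Scheme.{u}) {c : Cone D} (hc : IsLimit c) [IsCofiltered I]
  [∀ (i i' : I) (f : i ⟶ i'), IsAffineHom (D.map f)] [∀ i, CompactSpace (D.obj i)]
  [∀ i, QuasiSeparatedSpace (D.obj i)]

include hc in
theorem exists_factors {j : I} {A B C : Over (D.obj j)}
    [QuasiCompact A.hom] [QuasiSeparated A.hom] [LocallyOfFinitePresentation B.hom]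
    [LocallyOfFiniteType C.hom] (u : B ⟶ C) (w : A ⟶ C) (h : Factors (c.π.app j) u w) :
    ∃ (i : I) (f : i ⟶ j), Factors (D.map f) u w := by
  obtain ⟨m, hm⟩ := h
  obtain ⟨i, f, v, hv⟩ := exists_descend D hc A B m
  haveI : QuasiCompact (Red.bc (D.map f) A).hom := inferInstanceAs (QuasiCompact (pullback.snd A.hom (D.map f)))
  haveI : QuasiSeparated (Red.bc (D.map f) A).hom := inferInstanceAs (QuasiSeparated (pullback.snd A.hom (D.map f)))
  haveI : LocallyOfFiniteType (Red.bc (D.map f) C).hom :=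
    inferInstanceAs (LocallyOfFiniteType (pullback.snd C.hom (D.map f)))
  obtain ⟨i', g, hg⟩ := exists_map_eq D hc (Red.bc (D.map f) A) (Red.bc (D.map f) C)
    (v ≫ (Over.pullback (D.map f)).map u) ((Over.pullback (D.map f)).map w) (by
      rw [Functor.map_comp, hv, map_E (c.w f) u, map_E (c.w f) w, ← hm]
      simp)
  have hf : D.map g ≫ D.map f = D.map (g ≫ f) := (D.map_comp _ _).symm
  refine ⟨i', g ≫ f, (E hf A).inv ≫ (Over.pullback (D.map g)).map v ≫ (E hf B).hom, ?_⟩
  rw [map_E' hf u, map_E' hf w, ← hg, (Over.pullback (D.map g)).map_comp]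
  simp

end GrothLib.GrpLim14
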