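import Groth.Agent.Lib.LimDescend.Hom
import Groth.Agent.Lib.DiagGrp.SubgroupEq
import Groth.Prelude

/-!
# Homomorphisms of finitely presented group schemes over a limit
-/

set_option autoImplicit false
set_option backward.isDefEq.respectTransparency false
set_option linter.style.haveILetI false
universe u

open CategoryTheory CategoryTheory.Limits AlgebraicGeometry
open MonoidalCategory CartesianMonoidalCategory MonObj

noncomputable section

namespace GrothLib.GrpLim14

variable {S₁ S₂ S₃ : Scheme.{u}}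

/-- Transitivity of base change. -/
def E {f : S₂ ⟶ S₁} {g : S₃ ⟶ S₂} {h : S₃ ⟶ S₁} (hh : g ≫ f = h) (A : Over S₁) :
    Red.bc g (Red.bc f A) ≅ Red.bc h A :=
  ((Over.pullbackComp g f).app A).symm ≪≫ eqToIso (congrArg (fun q => Red.bc q A) hh)

theorem E_hom_fst {f : S₂ ⟶ S₁} {g : S₃ ⟶ S₂} {h : S₃ ⟶ S₁} (hh : g ≫ f = h) (A : Over S₁) :
    (E hh A).hom.left ≫ pullback.fst A.hom h =
      pullback.fst (Red.bc f A).hom g ≫ pullback.fst A.hom f := by
  subst hh
  simp [E, Over.pullbackComp, conjugateIsoEquiv, conjugateEquiv, mateEquiv]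
  erw [Category.id_comp]

theorem E_inv_fst {f : S₂ ⟶ S₁} {g : S₃ ⟶ S₂} {h : S₃ ⟶ S₁} (hh : g ≫ f = h) (A : Over S₁) :
    (E hh A).inv.left ≫ pullback.fst (Red.bc f A).hom g ≫ pullback.fst A.hom f = pullback.fst A.hom h := by
  rw [← E_hom_fst hh A, ← Over.comp_left_assoc, Iso.inv_hom_id, Over.id_left, Category.id_comp]

theorem isMonHom_E {f : S₂ ⟶ S₁} {g : S₃ ⟶ S₂} {h : S₃ ⟶ S₁} (hh : g ≫ f = h) (A : Over S₁) [GrpObj A] :
    IsMonHom (E hh A).hom ∧ IsMonHom (E hh A).inv := by
  subst hh
  have e : (E rfl A) = ((Grp.forget _).mapIso (DiagGrp.bcGrpComp A f g (g ≫ f) rfl)).symm := by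
    refine Iso.ext ?_
    have h1 : ((Grp.forget _).mapIso (DiagGrp.bcGrpComp A f g _ rfl)).hom =
        (Over.pullbackComp g f).hom.app A := by simp [DiagGrp.bcGrpComp] <;> rfl
    rw [← cancel_epi ((Grp.forget _).mapIso (DiagGrp.bcGrpComp A f g (g ≫ f) rfl)).hom,
      Iso.symm_hom, Iso.hom_inv_id, h1]
    simp [E]
    rfl
  rw [e]
  exact ⟨inferInstanceAs (IsMonHom (DiagGrp.bcGrpComp A f g (g ≫ f) rfl).inv.hom.hom),
    inferInstanceAs (IsMonHom (DiagGrp.bcGrpComp A f g (g ≫ f) rfl).hom.hom.hom)⟩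

variable {I : Type u} [SmallCategory I] (D : I ⥤ Scheme.{u}) {c : Cone D} (hc : IsLimit c) [IsCofiltered I]
  [∀ (i i' : I) (f : i ⟶ i'), IsAffineHom (D.map f)] [∀ i, CompactSpace (D.obj i)]
  [∀ i, QuasiSeparatedSpace (D.obj i)]

include hc in
/-- Morphisms over a stage which agree over the limit agree over a later stage. -/
theorem exists_map_eq {i : I} (A B : Over (D.obj i)) [QuasiCompact A.hom] [QuasiSeparated A.hom]
    [LocallyOfFiniteType B.hom] (u₁ u₂ : A ⟶ B)
    (h : (Over.pullback (c.π.app i)).map u₁ = (Over.pullback (c.π.app i)).map u₂) :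
    ∃ (i' : I) (g : i' ⟶ i), (Over.pullback (D.map g)).map u₁ = (Over.pullback (D.map g)).map u₂ := by
  haveI : CompactSpace ↥A.left := QuasiCompact.compactSpace_of_compactSpace A.hom
  haveI : QuasiSeparatedSpace ↥A.left := quasiSeparatedSpace_of_quasiSeparated A.hom
  let k : Over i := Over.mk (𝟙 i)
  let U₁ := ((Over.pullback (D.map k.hom)).map u₁).left
  let U₂ := ((Over.pullback (D.map k.hom)).map u₂).left
  have h' := congrArg (·.left ≫ pullback.fst B.hom (c.π.app i)) h
  simp only [Over.pullback_map_left, pullback.lift_fst] at h'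
  obtain ⟨l, φ, hl⟩ := GrothLib.LimDescend.exists_hom_eq D A.hom B.hom
    (IsPullback.of_hasPullback A.hom (c.π.app i)) hc U₁ U₂ (Over.w ((Over.pullback (D.map k.hom)).map u₁))
    (Over.w ((Over.pullback (D.map k.hom)).map u₂)) (by
      apply pullback.hom_ext
      · simp only [U₁, U₂, Over.pullback_map_left, Category.assoc, pullback.lift_fst]
        rw [LimDesc.π_fst_assoc, LimDesc.π_fst_assoc]
        exact h'
      · simp only [U₁, U₂, Over.pullback_map_left, Category.assoc, pullback.lift_snd])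
  refine ⟨l.left, l.hom, Over.OverMorphism.ext ?_⟩
  have hl' := congrArg (· ≫ pullback.fst B.hom (D.map k.hom)) hl
  simp only [U₁, U₂, Over.pullback_map_left, Category.assoc, pullback.lift_fst] at hl'
  rw [LimDesc.map_fst_assoc, LimDesc.map_fst_assoc] at hl'
  simp only [Over.pullback_map_left]
  apply pullback.hom_ext
  · simp only [pullback.lift_fst]; exact hl'
  · simp only [pullback.lift_snd]

/-- The projection from the base change to the limit to the base change to a stage. -/
def proj {j i : I} (f : i ⟶ j) (A : Over (D.obj j)) :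
    pullback A.hom (c.π.app j) ⟶ pullback A.hom (D.map f) :=
  pullback.lift (pullback.fst _ _) (pullback.snd _ _ ≫ c.π.app i)
    (by rw [Category.assoc, c.w, pullback.condition])

theorem E_proj {j i : I} (f : i ⟶ j) (A : Over (D.obj j)) :
    (E (c.w f) A).hom.left ≫ proj D f A = pullback.fst (Red.bc (D.map f) A).hom (c.π.app i) := by
  apply pullback.hom_ext
  · rw [Category.assoc, proj, pullback.lift_fst, E_hom_fst]
  · rw [Category.assoc, proj, pullback.lift_snd, ← Category.assoc]
    have : (E (c.w f) A).hom.left ≫ pullback.snd A.hom (c.π.app j) = pullback.snd _ _ := Over.w (E (c.w f) A).hom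
    rw [this]
    exact pullback.condition.symm

theorem map_eq_iff {j i : I} (f : i ⟶ j) {A B : Over (D.obj j)}
    (u : Red.bc (c.π.app j) A ⟶ Red.bc (c.π.app j) B) (v : Red.bc (D.map f) A ⟶ Red.bc (D.map f) B) :
    (Over.pullback (c.π.app i)).map v = (E (c.w f) A).hom ≫ u ≫ (E (c.w f) B).inv ↔
      proj D f A ≫ v.left ≫ pullback.fst B.hom (D.map f) = u.left ≫ pullback.fst B.hom (c.π.app j) := by
  rw [← Category.assoc _ u, Iso.eq_comp_inv]
  have hfst : ((Over.pullback (c.π.app i)).map v ≫ (E (c.w f) B).hom).left ≫ pullback.fst B.hom (c.π.app j) =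
      (E (c.w f) A).hom.left ≫ proj D f A ≫ v.left ≫ pullback.fst B.hom (D.map f) := by
    rw [Over.comp_left, Category.assoc, E_hom_fst]
    simp only [Over.pullback_map_left, pullback.lift_fst_assoc, Category.assoc]
    rw [reassoc_of% (E_proj D f A)]
  constructor
  · intro h
    rw [h, Over.comp_left, Category.assoc] at hfst
    haveI : IsIso (E (c.w f) A).hom.left := inferInstanceAs (IsIso ((Over.forget _).map (E (c.w f) A).hom))
    exact ((cancel_epi (E (c.w f) A).hom.left).1 hfst).symm
  · intro h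
    refine Over.OverMorphism.ext (pullback.hom_ext ?_ ?_)
    · rw [hfst, h, Over.comp_left, Category.assoc]
    · exact (Over.w ((Over.pullback (c.π.app i)).map v ≫ (E (c.w f) B).hom)).trans
        (Over.w ((E (c.w f) A).hom ≫ u)).symm

include hc in
/-- Morphisms over the limit come from a stage. -/
theorem exists_descend {j : I} (A B : Over (D.obj j))
    [QuasiCompact A.hom] [QuasiSeparated A.hom] [LocallyOfFinitePresentation B.hom]
    (u : Red.bc (c.π.app j) A ⟶ Red.bc (c.π.app j) B) :
    ∃ (i : I) (f : i ⟶ j) (v : Red.bc (D.map f) A ⟶ Red.bc (D.map f) B),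
      (Over.pullback (c.π.app i)).map v = (E (c.w f) A).hom ≫ u ≫ (E (c.w f) B).inv := by
  haveI : CompactSpace ↥A.left := QuasiCompact.compactSpace_of_compactSpace A.hom
  haveI : QuasiSeparatedSpace ↥A.left := quasiSeparatedSpace_of_quasiSeparated A.hom
  obtain ⟨k, g₀, hg₀, hk⟩ := GrothLib.LimDescend.exists_hom D A.hom B.hom
    (IsPullback.of_hasPullback A.hom (c.π.app j)) (IsPullback.of_hasPullback B.hom (c.π.app j)) hc u.left (Over.w u)
  refine ⟨k.left, k.hom, Over.homMk g₀ hg₀, (map_eq_iff D k.hom u _).2 ?_⟩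
  have hproj : ∀ C : Over (D.obj j),
      (LimDesc.cone D j C.hom (IsPullback.of_hasPullback C.hom (c.π.app j))).π.app k = proj D k.hom C := by
    intro C
    apply pullback.hom_ext
    · rw [LimDesc.π_fst, proj, pullback.lift_fst]
    · rw [LimDesc.π_snd, proj, pullback.lift_snd]
  rw [← hproj A]
  have := congrArg (· ≫ pullback.fst B.hom (D.map k.hom)) hk
  simp only [Category.assoc, hproj B] at this
  rw [show proj D k.hom B ≫ pullback.fst B.hom (D.map k.hom) = pullback.fst B.hom (c.π.app j) from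
    pullback.lift_fst _ _ _] at this
  exact this

include hc in
/-- **Homomorphisms of groups over the limit come from a stage.** -/
theorem exists_hom_descend {j : I} (G H : Over (D.obj j)) [GrpObj G] [GrpObj H]
    [QuasiCompact G.hom] [QuasiSeparated G.hom] [LocallyOfFinitePresentation H.hom]
    (u : Red.bc (c.π.app j) G ⟶ Red.bc (c.π.app j) H) [IsMonHom u] :
    ∃ (i : I) (f : i ⟶ j) (v : Red.bc (D.map f) G ⟶ Red.bc (D.map f) H), IsMonHom v ∧
      (Over.pullback (c.π.app i)).map v = (E (c.w f) G).hom ≫ u ≫ (E (c.w f) H).inv := by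
  haveI : CompactSpace ↥G.left := QuasiCompact.compactSpace_of_compactSpace G.hom
  haveI : QuasiSeparatedSpace ↥G.left := quasiSeparatedSpace_of_quasiSeparated G.hom
  obtain ⟨k, g₀, hg₀, hk⟩ := GrothLib.LimDescend.exists_hom D G.hom H.hom
    (IsPullback.of_hasPullback G.hom (c.π.app j)) (IsPullback.of_hasPullback H.hom (c.π.app j)) hc u.left (Over.w u)
  let v₀ : Red.bc (D.map k.hom) G ⟶ Red.bc (D.map k.hom) H := Over.homMk g₀ hg₀
  have hproj : ∀ A : Over (D.obj j),
      (LimDesc.cone D j A.hom (IsPullback.of_hasPullback A.hom (c.π.app j))).π.app k = proj D k.hom A := by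
    intro A
    apply pullback.hom_ext
    · rw [LimDesc.π_fst, proj, pullback.lift_fst]
    · rw [LimDesc.π_snd, proj, pullback.lift_snd]
  have hv₀ : proj D k.hom G ≫ v₀.left ≫ pullback.fst H.hom (D.map k.hom) = u.left ≫ pullback.fst H.hom (c.π.app j) := by
    rw [← hproj G]
    have := congrArg (· ≫ pullback.fst H.hom (D.map k.hom)) hk
    simp only [Category.assoc, hproj H] at this
    rw [show proj D k.hom H ≫ pullback.fst H.hom (D.map k.hom) = pullback.fst H.hom (c.π.app j) from
      pullback.lift_fst _ _ _] at this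
    exact this
  let F₀ := Over.pullback (c.π.app k.left)
  let B₀ := Red.bc (D.map k.hom) G
  let C₀ := Red.bc (D.map k.hom) H
  haveI : QuasiCompact B₀.hom := inferInstanceAs (QuasiCompact (pullback.snd G.hom (D.map k.hom)))
  haveI : QuasiSeparated B₀.hom := inferInstanceAs (QuasiSeparated (pullback.snd G.hom (D.map k.hom)))
  haveI : LocallyOfFiniteType C₀.hom := inferInstanceAs (LocallyOfFiniteType (pullback.snd H.hom (D.map k.hom)))
  haveI : QuasiCompact (B₀ ⊗ B₀).hom := by rw [Over.tensorObj_hom]; infer_instance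
  haveI : QuasiSeparated (B₀ ⊗ B₀).hom := by rw [Over.tensorObj_hom]; infer_instance
  haveI hm : IsMonHom (F₀.map v₀) := by
    rw [show F₀.map v₀ = _ from (map_eq_iff D k.hom u v₀).2 hv₀]
    haveI := (isMonHom_E (c.w k.hom) G).1
    haveI := (isMonHom_E (c.w k.hom) H).2
    infer_instance
  obtain ⟨i, g, hg⟩ := exists_map_eq D hc (B₀ ⊗ B₀) C₀ (μ[B₀] ≫ v₀) ((v₀ ⊗ₘ v₀) ≫ μ[C₀]) (by
    rw [← cancel_epi (Functor.LaxMonoidal.μ F₀ B₀ B₀), Functor.map_comp, Functor.map_comp,
      ← Category.assoc, ← Category.assoc, ← Functor.LaxMonoidal.μ_natural, Category.assoc]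
    exact hm.mul_hom)
  let F := Over.pullback (D.map g)
  haveI : IsMonHom (F.map v₀) := GrothLib.GrpSchField.isMonHom_of_mul _ (by
    show (Functor.LaxMonoidal.μ F B₀ B₀ ≫ F.map μ[B₀]) ≫ F.map v₀ =
      (F.map v₀ ⊗ₘ F.map v₀) ≫ Functor.LaxMonoidal.μ F C₀ C₀ ≫ F.map μ[C₀]
    rw [Category.assoc, ← Functor.map_comp, hg, Functor.map_comp, Functor.LaxMonoidal.μ_natural_assoc])
  have hf : D.map g ≫ D.map k.hom = D.map (g ≫ k.hom) := (D.map_comp _ _).symm
  haveI := (isMonHom_E hf G).2
  haveI := (isMonHom_E hf H).1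
  refine ⟨i, g ≫ k.hom, (E hf G).inv ≫ F.map v₀ ≫ (E hf H).hom, inferInstance, (map_eq_iff D _ u _).2 ?_⟩
  have hp : proj D (c := c) (g ≫ k.hom) G ≫ (E hf G).inv.left ≫ pullback.fst B₀.hom (D.map g) = proj D (c := c) k.hom G := by
    apply pullback.hom_ext
    · simp only [Category.assoc]
      rw [E_inv_fst]
      simp only [proj, pullback.lift_fst]
    · simp only [Category.assoc]
      rw [show pullback.fst B₀.hom (D.map g) ≫ pullback.snd G.hom (D.map k.hom) =
        pullback.snd B₀.hom (D.map g) ≫ D.map g from pullback.condition,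
        ← Category.assoc (E hf G).inv.left,
        show (E hf G).inv.left ≫ pullback.snd B₀.hom (D.map g) = pullback.snd _ _ from Over.w (E hf G).inv]
      simp only [proj, pullback.lift_snd_assoc, pullback.lift_snd, Category.assoc, c.w]
  rw [Over.comp_left, Over.comp_left, Category.assoc, Category.assoc, E_hom_fst]
  simp only [F, Over.pullback_map_left, pullback.lift_fst_assoc, Category.assoc]
  rw [← hv₀, ← hp]
  simp only [Category.assoc]
  rfl

end GrothLib.GrpLim14
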