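import Groth.Agent.Lib.GrpLim14.Descend
import Groth.Prelude

/-!
# Subgroups over a limit
-/

set_option autoImplicit false
set_option backward.isDefEq.respectTransparency false
set_option linter.style.haveILetI false
universe u

open CategoryTheory CategoryTheory.Limits AlgebraicGeometry
open MonoidalCategory CartesianMonoidalCategory MonObj

noncomputable section

namespace GrothLib.GrpLim14

variable {S S' : Scheme.{u}} {G H : Over S} [GrpObj G] (i : H ⟶ G) (g : S' ⟶ S)

theorem μ_conj' : Functor.LaxMonoidal.μ (Over.pullback g) G H ≫ (Over.pullback g).map (conj i) =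
    conj ((Over.pullback g).map i) := by
  simp only [conj, Functor.map_mul, Functor.map_inv', MonObj.comp_mul, GrpObj.comp_inv, Functor.map_comp,
    Functor.Monoidal.μ_fst, Functor.Monoidal.μ_snd_assoc]

/-- Being a subgroup after a base change, as factorisations. -/
def IsSubgroupAt : Prop :=
  Factors g i ((fst H H ≫ i) * (snd H H ≫ i)) ∧ Factors g i (η[G]) ∧ Factors g i i⁻¹

variable [Mono i]

theorem exists_grpObj_iff : (∃ _ : GrpObj (Red.bc g H), IsMonHom ((Over.pullback g).map i)) ↔ IsSubgroupAt i g := by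
  let F := Over.pullback g
  haveI : IsIso (Functor.LaxMonoidal.μ (Over.pullback g) H H) := inferInstanceAs (IsIso (Functor.Monoidal.μIso F H H).hom)
  haveI : IsIso (Functor.LaxMonoidal.ε (Over.pullback g)) := inferInstanceAs (IsIso (Functor.Monoidal.εIso F).hom)
  have hmul : Functor.LaxMonoidal.μ (Over.pullback g) H H ≫ (Over.pullback g).map ((fst H H ≫ i) * (snd H H ≫ i)) =
      (fst _ _ ≫ (Over.pullback g).map i) * (snd _ _ ≫ (Over.pullback g).map i) := by
    simp only [Functor.map_mul, MonObj.comp_mul, Functor.map_comp, Functor.Monoidal.μ_fst_assoc, Functor.Monoidal.μ_snd_assoc]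
  have hone : Functor.LaxMonoidal.ε (Over.pullback g) ≫ (Over.pullback g).map η[G] = η[Red.bc g G] := rfl
  have hinv : (Over.pullback g).map i⁻¹ = ((Over.pullback g).map i)⁻¹ := Functor.map_inv' _ _
  constructor
  · rintro ⟨_, hi⟩
    refine ⟨⟨inv (Functor.LaxMonoidal.μ (Over.pullback g) H H) ≫ μ[Red.bc g H], ?_⟩,
      ⟨inv (Functor.LaxMonoidal.ε (Over.pullback g)) ≫ η[Red.bc g H], ?_⟩, ⟨GrpObj.inv, ?_⟩⟩
    · rw [Category.assoc, IsIso.inv_comp_eq, hmul, IsMonHom.mul_hom, Hom.mul_def]
      congr 1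
    · rw [Category.assoc, IsIso.inv_comp_eq, hone]
      exact IsMonHom.one_hom _
    · rw [hinv, Hom.inv_def]
      exact GrpObj.inv_hom _
  · rintro ⟨⟨m, hm⟩, ⟨e, he⟩, ⟨v, hv⟩⟩
    let o : Ops (Red.bc g H) := ⟨Functor.LaxMonoidal.μ (Over.pullback g) H H ≫ m, Functor.LaxMonoidal.ε (Over.pullback g) ≫ e, v⟩
    have km : ∀ {T : Over S'} (a b : T ⟶ Red.bc g H), o.mul a b ≫ (Over.pullback g).map i =
        (a ≫ (Over.pullback g).map i) * (b ≫ (Over.pullback g).map i) := by
      intro T a b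
      simp only [Ops.mul, o, Category.assoc, hm]
      rw [hmul, MonObj.comp_mul, lift_fst_assoc, lift_snd_assoc]
    have ke : ∀ {T : Over S'}, (toUnit T ≫ o.e) ≫ (Over.pullback g).map i = (1 : T ⟶ Red.bc g G) := by
      intro T
      simp only [o, Category.assoc, he, hone, Hom.one_def]
    have kv : ∀ {T : Over S'} (a : T ⟶ Red.bc g H), (a ≫ o.v) ≫ (Over.pullback g).map i = (a ≫ (Over.pullback g).map i)⁻¹ := by
      intro T a
      simp only [o, Category.assoc, hv, hinv, GrpObj.comp_inv]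
    have hl : o.Laws := by
      refine ⟨fun a b d => ?_, fun a => ?_, fun a => ?_, fun a => ?_, fun a => ?_⟩ <;>
        rw [← cancel_mono ((Over.pullback g).map i)] <;>
        simp only [km, ke, kv, _root_.mul_assoc, _root_.one_mul, _root_.mul_one, inv_mul_cancel, mul_inv_cancel]
    letI := o.grpObj hl
    refine ⟨this, ⟨?_, ?_⟩⟩
    · show o.e ≫ _ = _
      simp only [o, Category.assoc, he, hone]
    · show o.m ≫ _ = _
      simp only [o, Category.assoc, hm]
      rw [hmul, Hom.mul_def]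
      congr 1

theorem normal_iff [GrpObj (Red.bc g H)] [IsMonHom ((Over.pullback g).map i)] :
    AlgGrp.IsNormalHom ((Over.pullback g).map i) ↔ Factors g i (conj i) := by
  haveI : IsIso (Functor.LaxMonoidal.μ (Over.pullback g) G H) :=
    inferInstanceAs (IsIso (Functor.Monoidal.μIso (Over.pullback g) G H).hom)
  rw [isNormalHom_iff]
  constructor
  · rintro ⟨m, hm⟩
    refine ⟨inv (Functor.LaxMonoidal.μ (Over.pullback g) G H) ≫ m, ?_⟩
    rw [Category.assoc, hm, ← μ_conj', IsIso.inv_hom_id_assoc]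
  · rintro ⟨m, hm⟩
    exact ⟨Functor.LaxMonoidal.μ (Over.pullback g) G H ≫ m, by rw [Category.assoc, hm, μ_conj']⟩

/-- Factorisations descend to a stage over a quasi-compact quasi-separated stage. -/
theorem exists_factors_over {I : Type u} [SmallCategory I] [IsCofiltered I] (D : I ⥤ Scheme.{u}) {c : Cone D}
    (hc : IsLimit c) [∀ (i i' : I) (f : i ⟶ i'), IsAffineHom (D.map f)] {i₀ : I} [CompactSpace (D.obj i₀)]
    [QuasiSeparatedSpace (D.obj i₀)] {A B C : Over (D.obj i₀)}
    [hA₁ : QuasiCompact A.hom] [hA₂ : QuasiSeparated A.hom] [hB : LocallyOfFinitePresentation B.hom]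
    [hC : LocallyOfFiniteType C.hom] (u : B ⟶ C) (w : A ⟶ C) (h : Factors (c.π.app i₀) u w) :
    ∃ (i : I) (a : i ⟶ i₀), Factors (D.map a) u w := by
  haveI : ∀ (a b : Over i₀) (f : a ⟶ b), IsAffineHom ((Over.forget i₀ ⋙ D).map f) := fun a b f =>
    inferInstanceAs (IsAffineHom (D.map f.left))
  haveI : ∀ a, CompactSpace ↥((Over.forget i₀ ⋙ D).obj a) := fun a => QuasiCompact.compactSpace_of_compactSpace (D.map a.hom)
  haveI : ∀ a, QuasiSeparatedSpace ↥((Over.forget i₀ ⋙ D).obj a) := fun a => quasiSeparatedSpace_of_quasiSeparated (D.map a.hom)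
  obtain ⟨k, f, hk⟩ := @exists_factors (Over i₀) _ (Over.forget i₀ ⋙ D) _
    ((Functor.Initial.isLimitWhiskerEquiv (Over.forget i₀) c).symm hc) _ _ _ _ (Over.mk (𝟙 i₀)) A B C hA₁ hA₂ hB hC u w h
  exact ⟨k.left, f.left, hk⟩

end GrothLib.GrpLim14
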