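import Groth.Agent.Lib.GrpLim14.Normal
import Groth.Agent.Lib.LimDescend.Scheme
import Groth.Prelude

/-!
# Group schemes of finite presentation over a limit come from a stage
-/

set_option autoImplicit false
set_option backward.isDefEq.respectTransparency false
set_option linter.style.haveILetI false
universe u

open CategoryTheory CategoryTheory.Limits AlgebraicGeometry
open MonoidalCategory CartesianMonoidalCategory MonObj
open Functor.LaxMonoidal

noncomputable section

namespace GrothLib.GrpLim14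

variable {S S' S'' : Scheme.{u}}

/-- Candidate group operations. -/
structure Ops (H : Over S) where
  m : H ⊗ H ⟶ H
  e : 𝟙_ (Over S) ⟶ H
  v : H ⟶ H

/-- Base change of operations. -/
def Ops.map (g : S' ⟶ S) {H : Over S} (o : Ops H) : Ops ((Over.pullback g).obj H) where
  m := Functor.LaxMonoidal.μ (Over.pullback g) H H ≫ (Over.pullback g).map o.m
  e := Functor.LaxMonoidal.ε (Over.pullback g) ≫ (Over.pullback g).map o.e
  v := (Over.pullback g).map o.v

/-- Multiplying two points. -/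
def Ops.mul {H : Over S} (o : Ops H) {T : Over S} (a b : T ⟶ H) : T ⟶ H := lift a b ≫ o.m

theorem Ops.map_mul (g : S' ⟶ S) {H : Over S} (o : Ops H) {T : Over S} (a b : T ⟶ H) :
    (o.map g).mul ((Over.pullback g).map a) ((Over.pullback g).map b) = (Over.pullback g).map (o.mul a b) := by
  simp only [Ops.mul, Ops.map, Functor.map_comp]
  rw [← Category.assoc, Functor.Monoidal.lift_μ]

/-- The group laws, on points. -/
structure Ops.Laws {H : Over S} (o : Ops H) : Prop where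
  assoc : ∀ {T : Over S} (a b c : T ⟶ H), o.mul (o.mul a b) c = o.mul a (o.mul b c)
  one_mul : ∀ {T : Over S} (a : T ⟶ H), o.mul (toUnit T ≫ o.e) a = a
  mul_one : ∀ {T : Over S} (a : T ⟶ H), o.mul a (toUnit T ≫ o.e) = a
  left_inv : ∀ {T : Over S} (a : T ⟶ H), o.mul (a ≫ o.v) a = toUnit T ≫ o.e
  right_inv : ∀ {T : Over S} (a : T ⟶ H), o.mul a (a ≫ o.v) = toUnit T ≫ o.e

/-- Operations with the laws give a group object. -/
@[reducible] def Ops.grpObj {H : Over S} (o : Ops H) (h : o.Laws) : GrpObj H where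
  one := o.e
  mul := o.m
  inv := o.v
  one_mul := by
    have h1 := h.one_mul (snd (𝟙_ (Over S)) H)
    rw [show o.e ▷ H = lift (toUnit _ ≫ o.e) (snd (𝟙_ (Over S)) H) by
      apply CartesianMonoidalCategory.hom_ext <;> simp [toUnit_unique (toUnit _) (fst (𝟙_ (Over S)) H)]]
    rw [show lift (toUnit _ ≫ o.e) (snd (𝟙_ (Over S)) H) ≫ o.m = snd _ H from h1]
    exact (leftUnitor_hom H).symm
  mul_one := by
    have h1 := h.mul_one (fst H (𝟙_ (Over S)))
    rw [show H ◁ o.e = lift (fst H (𝟙_ (Over S))) (toUnit _ ≫ o.e) by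
      apply CartesianMonoidalCategory.hom_ext <;> simp [toUnit_unique (toUnit _) (snd H (𝟙_ (Over S)))]]
    rw [show lift (fst H (𝟙_ (Over S))) (toUnit _ ≫ o.e) ≫ o.m = fst H _ from h1]
    exact (rightUnitor_hom H).symm
  mul_assoc := by
    have h1 := h.assoc (fst (H ⊗ H) H ≫ fst H H) (fst (H ⊗ H) H ≫ snd H H) (snd (H ⊗ H) H)
    simp only [Ops.mul] at h1
    rw [show o.m ▷ H = lift (lift (fst (H ⊗ H) H ≫ fst H H) (fst (H ⊗ H) H ≫ snd H H) ≫ o.m) (snd (H ⊗ H) H) by
      apply CartesianMonoidalCategory.hom_ext <;> simp [← comp_lift_assoc]]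
    rw [h1, ← Category.assoc (α_ H H H).hom]
    congr 1
    apply CartesianMonoidalCategory.hom_ext
    · simp
    · simp only [lift_snd, Category.assoc, whiskerLeft_snd]
      rw [← Category.assoc]
      congr 1
      apply CartesianMonoidalCategory.hom_ext <;> simp
  left_inv := by
    have h1 := h.left_inv (𝟙 H)
    simpa only [Ops.mul, Category.id_comp] using h1
  right_inv := by
    have h1 := h.right_inv (𝟙 H)
    simpa only [Ops.mul, Category.id_comp] using h1

/-- Transitivity of base change respects products. -/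
theorem μ_E {f : S' ⟶ S} {g : S'' ⟶ S'} {h : S'' ⟶ S} (hh : g ≫ f = h) (A B : Over S) :
    Functor.LaxMonoidal.μ (Over.pullback g) ((Over.pullback f).obj A) ((Over.pullback f).obj B) ≫
      (Over.pullback g).map (Functor.LaxMonoidal.μ (Over.pullback f) A B) ≫ (E hh (A ⊗ B)).hom =
    ((E hh A).hom ⊗ₘ (E hh B).hom) ≫ Functor.LaxMonoidal.μ (Over.pullback h) A B := by
  let F := Over.pullback h
  haveI : IsIso (Functor.LaxMonoidal.μ F A B) := inferInstanceAs (IsIso (Functor.Monoidal.μIso F A B).hom)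
  rw [← cancel_mono (inv (Functor.LaxMonoidal.μ F A B))]
  have key : ∀ {W : Over S} (w : A ⊗ B ⟶ W), (E hh (A ⊗ B)).hom ≫ F.map w =
      (Over.pullback g).map ((Over.pullback f).map w) ≫ (E hh W).hom := by
    intro W w
    rw [map_E hh w]
    simp [F]
  apply CartesianMonoidalCategory.hom_ext
  · rw [show inv (Functor.LaxMonoidal.μ F A B) = inv (Functor.LaxMonoidal.μ F A B) from rfl]
    have hf : inv (Functor.LaxMonoidal.μ F A B) ≫ fst _ _ = F.map (fst A B) := by rw [IsIso.inv_comp_eq, Functor.Monoidal.μ_fst]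
    simp only [Category.assoc, hf, key]
    rw [← Category.assoc ((Over.pullback g).map _), ← Functor.map_comp, Functor.Monoidal.μ_fst,
      ← Category.assoc, Functor.Monoidal.μ_fst, Functor.Monoidal.μ_fst, tensorHom_fst]
  · have hf : inv (Functor.LaxMonoidal.μ F A B) ≫ snd _ _ = F.map (snd A B) := by rw [IsIso.inv_comp_eq, Functor.Monoidal.μ_snd]
    simp only [Category.assoc, hf, key]
    rw [← Category.assoc ((Over.pullback g).map _), ← Functor.map_comp, Functor.Monoidal.μ_snd,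
      ← Category.assoc, Functor.Monoidal.μ_snd, Functor.Monoidal.μ_snd, tensorHom_snd]

/-- Transitivity of base change respects the unit. -/
theorem ε_E {f : S' ⟶ S} {g : S'' ⟶ S'} {h : S'' ⟶ S} (hh : g ≫ f = h) :
    Functor.LaxMonoidal.ε (Over.pullback g) ≫ (Over.pullback g).map (Functor.LaxMonoidal.ε (Over.pullback f)) ≫ (E hh (𝟙_ (Over S))).hom =
      Functor.LaxMonoidal.ε (Over.pullback h) := by
  let F := Over.pullback h
  haveI : IsIso (Functor.LaxMonoidal.ε F) := inferInstanceAs (IsIso (Functor.Monoidal.εIso F).hom)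
  rw [← cancel_mono (inv (Functor.LaxMonoidal.ε F))]
  exact toUnit_unique _ _

variable {I : Type u} [SmallCategory I] (D : I ⥤ Scheme.{u}) {c : Cone D}


/-- A multiplication matches. -/
def IsM (G : Over c.pt) [GrpObj G] {i : I} {H : Over (D.obj i)} (φ : G ≅ (Over.pullback (c.π.app i)).obj H)
    (o : H ⊗ H ⟶ H) : Prop :=
  (φ.hom ⊗ₘ φ.hom) ≫ Functor.LaxMonoidal.μ (Over.pullback (c.π.app i)) H H ≫ (Over.pullback (c.π.app i)).map o = μ[G] ≫ φ.hom

/-- A unit matches. -/
def IsE (G : Over c.pt) [GrpObj G] {i : I} {H : Over (D.obj i)} (φ : G ≅ (Over.pullback (c.π.app i)).obj H)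
    (o : 𝟙_ (Over (D.obj i)) ⟶ H) : Prop :=
  Functor.LaxMonoidal.ε (Over.pullback (c.π.app i)) ≫ (Over.pullback (c.π.app i)).map o = η[G] ≫ φ.hom

/-- An inverse matches. -/
def IsV (G : Over c.pt) [GrpObj G] {i : I} {H : Over (D.obj i)} (φ : G ≅ (Over.pullback (c.π.app i)).obj H)
    (o : H ⟶ H) : Prop :=
  φ.hom ≫ (Over.pullback (c.π.app i)).map o = ι[G] ≫ φ.hom

variable {D}
variable (G : Over c.pt) [GrpObj G] {i k : I} (f : k ⟶ i) {H : Over (D.obj i)}
  (φ : G ≅ (Over.pullback (c.π.app i)).obj H)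

/-- The comparison at a later stage. -/
def shiftIso : G ≅ (Over.pullback (c.π.app k)).obj ((Over.pullback (D.map f)).obj H) :=
  φ ≪≫ (E (c.w f) H).symm

theorem IsV.shift {o : H ⟶ H} (h : IsV D G φ o) : IsV D G (shiftIso G f φ) ((Over.pullback (D.map f)).map o) := by
  show (φ.hom ≫ (E (c.w f) H).inv) ≫ _ = ι[G] ≫ φ.hom ≫ (E (c.w f) H).inv
  rw [map_E (c.w f) o, ← Category.assoc ι[G], ← h]
  simp

theorem IsE.shift {o : 𝟙_ (Over (D.obj i)) ⟶ H} (h : IsE D G φ o) :
    IsE D G (shiftIso G f φ) (Functor.LaxMonoidal.ε (Over.pullback (D.map f)) ≫ (Over.pullback (D.map f)).map o) := by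
  show _ = η[G] ≫ φ.hom ≫ (E (c.w f) H).inv
  rw [Functor.map_comp, map_E (c.w f) o, ← Category.assoc η[G], ← h]
  simp only [Category.assoc]
  rw [reassoc_of% (ε_E (c.w f))]

theorem IsM.shift {o : H ⊗ H ⟶ H} (h : IsM D G φ o) :
    IsM D G (shiftIso G f φ) (Functor.LaxMonoidal.μ (Over.pullback (D.map f)) H H ≫ (Over.pullback (D.map f)).map o) := by
  show ((φ.hom ≫ (E (c.w f) H).inv) ⊗ₘ (φ.hom ≫ (E (c.w f) H).inv)) ≫ _ = μ[G] ≫ φ.hom ≫ (E (c.w f) H).inv
  rw [Functor.map_comp, map_E (c.w f) o, ← Category.assoc μ[G], ← h, ← tensorHom_comp_tensorHom]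
  simp only [Category.assoc]
  rw [reassoc_of% (μ_E (c.w f) H H), tensorHom_comp_tensorHom_assoc]
  simp

variable (hc : IsLimit c) [IsCofiltered I]
  [∀ (i i' : I) (f : i ⟶ i'), IsAffineHom (D.map f)] [∀ i, CompactSpace (D.obj i)]
  [∀ i, QuasiSeparatedSpace (D.obj i)]

include hc in
/-- The laws hold at a later stage. -/
theorem exists_laws [LocallyOfFinitePresentation H.hom] [QuasiCompact H.hom] [QuasiSeparated H.hom] (o : Ops H)
    (hm : IsM D G φ o.m) (he : IsE D G φ o.e) (hv : IsV D G φ o.v) :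
    ∃ (k : I) (f : k ⟶ i), (o.map (D.map f)).Laws := by
  have hmul : ∀ {T : Over c.pt} (a b : T ⟶ (Over.pullback (c.π.app i)).obj H), (o.map (c.π.app i)).mul a b =
      ((a ≫ φ.inv) * (b ≫ φ.inv)) ≫ φ.hom := by
    intro T a b
    show lift a b ≫ Functor.LaxMonoidal.μ (Over.pullback (c.π.app i)) H H ≫ (Over.pullback (c.π.app i)).map o.m = _
    rw [Hom.mul_def, Category.assoc, ← (show _ = μ[G] ≫ φ.hom from hm), lift_map_assoc]
    simp
  have hone : ∀ {T : Over c.pt}, toUnit T ≫ (o.map (c.π.app i)).e = (1 : T ⟶ G) ≫ φ.hom := by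
    intro T
    show toUnit T ≫ Functor.LaxMonoidal.ε (Over.pullback (c.π.app i)) ≫ (Over.pullback (c.π.app i)).map o.e = _
    rw [(show _ = η[G] ≫ φ.hom from he), Hom.one_def, Category.assoc]
  have hinv : ∀ {T : Over c.pt} (a : T ⟶ (Over.pullback (c.π.app i)).obj H), a ≫ (o.map (c.π.app i)).v = (a ≫ φ.inv)⁻¹ ≫ φ.hom := by
    intro T a
    show a ≫ (Over.pullback (c.π.app i)).map o.v = _
    rw [show (Over.pullback (c.π.app i)).map o.v = φ.inv ≫ ι[G] ≫ φ.hom by
      rw [← (show _ = ι[G] ≫ φ.hom from hv), Iso.inv_hom_id_assoc], Hom.inv_def]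
    simp
  haveI : QuasiCompact (H ⊗ H).hom := by rw [Over.tensorObj_hom]; infer_instance
  haveI : QuasiSeparated (H ⊗ H).hom := by rw [Over.tensorObj_hom]; infer_instance
  haveI : QuasiCompact ((H ⊗ H) ⊗ H).hom := by rw [Over.tensorObj_hom]; infer_instance
  haveI : QuasiSeparated ((H ⊗ H) ⊗ H).hom := by rw [Over.tensorObj_hom]; infer_instance
  have hF1 : ∀ {A : Over (D.obj i)}, (Over.pullback (c.π.app i)).map (toUnit A ≫ o.e) = toUnit ((Over.pullback (c.π.app i)).obj A) ≫ (o.map (c.π.app i)).e := by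
    intro A
    show _ = toUnit _ ≫ Functor.LaxMonoidal.ε (Over.pullback (c.π.app i)) ≫ (Over.pullback (c.π.app i)).map o.e
    rw [Functor.map_comp, ← Category.assoc]
    congr 1
    haveI : IsIso (Functor.LaxMonoidal.ε (Over.pullback (c.π.app i))) := inferInstanceAs (IsIso (Functor.Monoidal.εIso (Over.pullback (c.π.app i))).hom)
    rw [← cancel_mono (inv (Functor.LaxMonoidal.ε (Over.pullback (c.π.app i))))]
    exact toUnit_unique _ _
  let a₁ := fst (H ⊗ H) H ≫ fst H H
  let a₂ := fst (H ⊗ H) H ≫ snd H H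
  let a₃ := snd (H ⊗ H) H
  have hv' : ∀ {A : Over (D.obj i)} (a : A ⟶ H), (Over.pullback (c.π.app i)).map (a ≫ o.v) = (Over.pullback (c.π.app i)).map a ≫ (o.map (c.π.app i)).v := fun a =>
    (Over.pullback (c.π.app i)).map_comp _ _
  obtain ⟨k₁, f₁, h₁⟩ := exists_map_eq D hc _ H (o.mul (o.mul a₁ a₂) a₃) (o.mul a₁ (o.mul a₂ a₃)) (by
    simp only [← Ops.map_mul, hmul, Category.assoc, Iso.hom_inv_id, Category.comp_id, _root_.mul_assoc])
  obtain ⟨k₂, f₂, h₂⟩ := exists_map_eq D hc _ H (o.mul (toUnit H ≫ o.e) (𝟙 H)) (𝟙 H) (by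
    simp only [← Ops.map_mul, hF1, hmul, hone, Category.assoc, Iso.hom_inv_id, Category.comp_id, _root_.one_mul,
      Iso.inv_hom_id])
  obtain ⟨k₃, f₃, h₃⟩ := exists_map_eq D hc _ H (o.mul (𝟙 H) (toUnit H ≫ o.e)) (𝟙 H) (by
    simp only [← Ops.map_mul, hF1, hmul, hone, Category.assoc, Iso.hom_inv_id, Category.comp_id, _root_.mul_one,
      Iso.inv_hom_id])
  obtain ⟨k₄, f₄, h₄⟩ := exists_map_eq D hc _ H (o.mul (𝟙 H ≫ o.v) (𝟙 H)) (toUnit H ≫ o.e) (by
    simp only [← Ops.map_mul, hF1, hv', hinv, hmul, hone, Category.assoc, Iso.hom_inv_id, Category.comp_id,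
      inv_mul_cancel])
  obtain ⟨k₅, f₅, h₅⟩ := exists_map_eq D hc _ H (o.mul (𝟙 H) (𝟙 H ≫ o.v)) (toUnit H ≫ o.e) (by
    simp only [← Ops.map_mul, hF1, hv', hinv, hmul, hone, Category.assoc, Iso.hom_inv_id, Category.comp_id,
      mul_inv_cancel])
  obtain ⟨m₁, g₁, g₂, w₁⟩ := IsCofiltered.cospan f₁ f₂
  obtain ⟨m₂, g₃, g₄, w₂⟩ := IsCofiltered.cospan f₃ f₄
  obtain ⟨m₃, g₅, g₆, w₃⟩ := IsCofiltered.cospan (g₁ ≫ f₁) (g₃ ≫ f₃)
  obtain ⟨k, g₇, g₈, w₄⟩ := IsCofiltered.cospan (g₅ ≫ g₁ ≫ f₁) f₅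
  let f := g₇ ≫ g₅ ≫ g₁ ≫ f₁
  have move : ∀ {j : I} {q : j ⟶ i} {A : Over (D.obj i)} {u v : A ⟶ H},
      (Over.pullback (D.map q)).map u = (Over.pullback (D.map q)).map v → ∀ (p : k ⟶ j), p ≫ q = f →
      (Over.pullback (D.map f)).map u = (Over.pullback (D.map f)).map v := fun e p hp =>
    map_eq_of_comp ((D.map_comp _ _).symm.trans (congrArg D.map hp)) e
  have e1 := move h₁ (g₇ ≫ g₅ ≫ g₁) (by simp [f])
  have e2 := move h₂ (g₇ ≫ g₅ ≫ g₂) (by simp [f, w₁])
  have e3 := move h₃ (g₇ ≫ g₆ ≫ g₃) (by simp [f, w₃])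
  have e4 := move h₄ (g₇ ≫ g₆ ≫ g₄) (by simp [f, w₃, w₂])
  have e5 := move h₅ g₈ (by simp [f, w₄])
  have hP1 : ∀ {T : Over (D.obj k)} {A : Over (D.obj i)} (x : T ⟶ (Over.pullback (D.map f)).obj A),
      x ≫ (Over.pullback (D.map f)).map (toUnit A ≫ o.e) = toUnit T ≫ (o.map (D.map f)).e := by
    intro T A x
    show _ = toUnit T ≫ Functor.LaxMonoidal.ε (Over.pullback (D.map f)) ≫ (Over.pullback (D.map f)).map o.e
    rw [(Over.pullback (D.map f)).map_comp, ← Category.assoc, ← Category.assoc (toUnit T)]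
    congr 1
    haveI : IsIso (Functor.LaxMonoidal.ε (Over.pullback (D.map f))) := inferInstanceAs (IsIso (Functor.Monoidal.εIso (Over.pullback (D.map f))).hom)
    rw [← cancel_mono (inv (Functor.LaxMonoidal.ε (Over.pullback (D.map f))))]
    exact toUnit_unique _ _
  have hPm : ∀ {T : Over (D.obj k)} {A : Over (D.obj i)} (x : T ⟶ (Over.pullback (D.map f)).obj A) (a b : A ⟶ H),
      x ≫ (Over.pullback (D.map f)).map (o.mul a b) = (o.map (D.map f)).mul (x ≫ (Over.pullback (D.map f)).map a) (x ≫ (Over.pullback (D.map f)).map b) := by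
    intro T A x a b
    rw [← Ops.map_mul]
    simp only [Ops.mul]
    rw [← Category.assoc, comp_lift]
  refine ⟨k, f, ⟨fun {T} a b d => ?_, fun {T} a => ?_, fun {T} a => ?_, fun {T} a => ?_, fun {T} a => ?_⟩⟩
  · let x : T ⟶ (Over.pullback (D.map f)).obj ((H ⊗ H) ⊗ H) := lift (lift a b ≫ Functor.LaxMonoidal.μ (Over.pullback (D.map f)) H H) d ≫ Functor.LaxMonoidal.μ (Over.pullback (D.map f)) (H ⊗ H) H
    have x1 : x ≫ (Over.pullback (D.map f)).map a₁ = a := by
      simp only [x, a₁, Functor.map_comp, Category.assoc]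
      rw [← Category.assoc (Functor.LaxMonoidal.μ (Over.pullback (D.map f)) (H ⊗ H) H), Functor.Monoidal.μ_fst, lift_fst_assoc, Category.assoc,
        Functor.Monoidal.μ_fst, lift_fst]
    have x2 : x ≫ (Over.pullback (D.map f)).map a₂ = b := by
      simp only [x, a₂, Functor.map_comp, Category.assoc]
      rw [← Category.assoc (Functor.LaxMonoidal.μ (Over.pullback (D.map f)) (H ⊗ H) H), Functor.Monoidal.μ_fst, lift_fst_assoc, Category.assoc,
        Functor.Monoidal.μ_snd, lift_snd]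
    have x3 : x ≫ (Over.pullback (D.map f)).map a₃ = d := by
      simp only [x, a₃, Category.assoc]
      rw [Functor.Monoidal.μ_snd, lift_snd]
    have := congrArg (x ≫ ·) e1
    simp only [hPm, x1, x2, x3] at this
    exact this
  · have := congrArg (a ≫ ·) e2
    simp only [hPm, hP1, CategoryTheory.Functor.map_id, Category.comp_id] at this
    exact this
  · have := congrArg (a ≫ ·) e3
    simp only [hPm, hP1, CategoryTheory.Functor.map_id, Category.comp_id] at this
    exact this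
  · have := congrArg (a ≫ ·) e4
    simp only [hPm, hP1, CategoryTheory.Functor.map_id, Category.id_comp, Category.comp_id] at this
    exact this
  · have := congrArg (a ≫ ·) e5
    simp only [hPm, hP1, CategoryTheory.Functor.map_id, Category.id_comp, Category.comp_id] at this
    exact this

include hc in
omit [GrpObj G] in
/-- A scheme of finite presentation over the limit comes from a stage. -/
theorem exists_model_over [LocallyOfFinitePresentation G.hom] [QuasiCompact G.hom] [QuasiSeparated G.hom] :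
    ∃ (i : I) (H : Over (D.obj i)) (_ : G ≅ (Over.pullback (c.π.app i)).obj H),
      LocallyOfFinitePresentation H.hom ∧ QuasiCompact H.hom ∧ QuasiSeparated H.hom := by
  obtain ⟨i, ⟨M⟩⟩ := GrothLib.LimDescend.exists_model D c hc G.hom
  exact ⟨i, Over.mk M.hom, Over.isoMk M.isPullback.isoPullback M.isPullback.isoPullback_hom_snd,
    M.lfp, M.qc, M.qs⟩

include hc in
/-- The inversion comes from a stage. -/
theorem exists_inv [LocallyOfFinitePresentation H.hom] [QuasiCompact H.hom] [QuasiSeparated H.hom] :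
    ∃ (k : I) (f : k ⟶ i) (o : (Over.pullback (D.map f)).obj H ⟶ (Over.pullback (D.map f)).obj H),
      IsV D G (shiftIso G f φ) o := by
  obtain ⟨k, f, v, hv⟩ := exists_descend D hc H H (φ.inv ≫ ι[G] ≫ φ.hom)
  refine ⟨k, f, v, ?_⟩
  show (φ.hom ≫ (E (c.w f) H).inv) ≫ _ = ι[G] ≫ φ.hom ≫ (E (c.w f) H).inv
  rw [hv]
  simp

include hc in
/-- The unit comes from a stage. -/
theorem exists_unit [LocallyOfFinitePresentation H.hom] :
    ∃ (k : I) (f : k ⟶ i) (o : 𝟙_ (Over (D.obj k)) ⟶ (Over.pullback (D.map f)).obj H),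
      IsE D G (shiftIso G f φ) o := by
  haveI : IsIso (Functor.LaxMonoidal.ε (Over.pullback (c.π.app i))) :=
    inferInstanceAs (IsIso (Functor.Monoidal.εIso (Over.pullback (c.π.app i))).hom)
  haveI : QuasiCompact (𝟙_ (Over (D.obj i))).hom := inferInstanceAs (QuasiCompact (𝟙 (D.obj i)))
  haveI : QuasiSeparated (𝟙_ (Over (D.obj i))).hom := inferInstanceAs (QuasiSeparated (𝟙 (D.obj i)))
  obtain ⟨k, f, v, hv⟩ := exists_descend D hc (𝟙_ (Over (D.obj i))) H
    (inv (Functor.LaxMonoidal.ε (Over.pullback (c.π.app i))) ≫ η[G] ≫ φ.hom)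
  refine ⟨k, f, Functor.LaxMonoidal.ε (Over.pullback (D.map f)) ≫ v, ?_⟩
  show _ = η[G] ≫ φ.hom ≫ (E (c.w f) H).inv
  rw [Functor.map_comp, hv]
  rw [reassoc_of% (ε_E (c.w f))]
  simp

include hc in
/-- The multiplication comes from a stage. -/
theorem exists_mul [LocallyOfFinitePresentation H.hom] [QuasiCompact H.hom] [QuasiSeparated H.hom] :
    ∃ (k : I) (f : k ⟶ i) (o : (Over.pullback (D.map f)).obj H ⊗ (Over.pullback (D.map f)).obj H ⟶ (Over.pullback (D.map f)).obj H),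
      IsM D G (shiftIso G f φ) o := by
  haveI : IsIso (Functor.LaxMonoidal.μ (Over.pullback (c.π.app i)) H H) :=
    inferInstanceAs (IsIso (Functor.Monoidal.μIso (Over.pullback (c.π.app i)) H H).hom)
  haveI : QuasiCompact (H ⊗ H).hom := by rw [Over.tensorObj_hom]; infer_instance
  haveI : QuasiSeparated (H ⊗ H).hom := by rw [Over.tensorObj_hom]; infer_instance
  obtain ⟨k, f, v, hv⟩ := exists_descend D hc (H ⊗ H) H
    (inv (Functor.LaxMonoidal.μ (Over.pullback (c.π.app i)) H H) ≫ (φ.inv ⊗ₘ φ.inv) ≫ μ[G] ≫ φ.hom)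
  refine ⟨k, f, Functor.LaxMonoidal.μ (Over.pullback (D.map f)) H H ≫ v, ?_⟩
  show ((φ.hom ≫ (E (c.w f) H).inv) ⊗ₘ (φ.hom ≫ (E (c.w f) H).inv)) ≫ _ = μ[G] ≫ φ.hom ≫ (E (c.w f) H).inv
  rw [Functor.map_comp, hv, reassoc_of% (μ_E (c.w f) H H), ← tensorHom_comp_tensorHom]
  simp only [Category.assoc]
  rw [tensorHom_comp_tensorHom_assoc]
  simp

include hc in
/-- **A group scheme of finite presentation over a limit comes from a stage.** -/
theorem exists_descend_group [LocallyOfFinitePresentation G.hom] [QuasiCompact G.hom] [QuasiSeparated G.hom] :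
    ∃ (j : I) (Gj : Over (D.obj j)) (_ : GrpObj Gj) (e : G ≅ (Over.pullback (c.π.app j)).obj Gj),
      IsMonHom e.hom ∧ LocallyOfFinitePresentation Gj.hom ∧ QuasiCompact Gj.hom ∧ QuasiSeparated Gj.hom := by
  obtain ⟨i, H, φ, _, _, _⟩ := exists_model_over G hc
  obtain ⟨k₁, f₁, v₁, h₁⟩ := exists_inv G φ hc
  have hfp : ∀ {a b : I} (g : b ⟶ a) (A : Over (D.obj a)), LocallyOfFinitePresentation A.hom → QuasiCompact A.hom →
      QuasiSeparated A.hom → LocallyOfFinitePresentation ((Over.pullback (D.map g)).obj A).hom ∧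
        QuasiCompact ((Over.pullback (D.map g)).obj A).hom ∧ QuasiSeparated ((Over.pullback (D.map g)).obj A).hom :=
    fun g A _ _ _ => ⟨inferInstanceAs (LocallyOfFinitePresentation (pullback.snd _ _)),
      inferInstanceAs (QuasiCompact (pullback.snd _ _)), inferInstanceAs (QuasiSeparated (pullback.snd _ _))⟩
  obtain ⟨_, _, _⟩ := hfp f₁ H ‹_› ‹_› ‹_›
  obtain ⟨k₂, f₂, e₂, h₂⟩ := exists_unit G (shiftIso G f₁ φ) hc
  obtain ⟨_, _, _⟩ := hfp f₂ ((Over.pullback (D.map f₁)).obj H) ‹_› ‹_› ‹_›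
  obtain ⟨k₃, f₃, m₃, h₃⟩ := exists_mul G (shiftIso G f₂ (shiftIso G f₁ φ)) hc
  let H₃ := (Over.pullback (D.map f₃)).obj ((Over.pullback (D.map f₂)).obj ((Over.pullback (D.map f₁)).obj H))
  obtain ⟨a, b, d⟩ := hfp f₃ ((Over.pullback (D.map f₂)).obj ((Over.pullback (D.map f₁)).obj H)) ‹_› ‹_› ‹_›
  have hv₃ := (h₁.shift G f₂ _).shift G f₃ _
  have he₃ := h₂.shift G f₃ _
  obtain ⟨k, f, hl⟩ := exists_laws G (shiftIso G f₃ (shiftIso G f₂ (shiftIso G f₁ φ))) hc
    ⟨m₃, _, _⟩ h₃ he₃ hv₃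
  obtain ⟨a', b', d'⟩ := hfp f H₃ a b d
  letI := Ops.grpObj _ hl
  refine ⟨k, _, this, shiftIso G f (shiftIso G f₃ (shiftIso G f₂ (shiftIso G f₁ φ))), ⟨?_, ?_⟩, a', b', d'⟩
  · exact (he₃.shift G f _).symm
  · exact (h₃.shift G f _).symm


end GrothLib.GrpLim14
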