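import Groth.Agent.Lib.GrpLim14.Normal
import Groth.Agent.Lib.DiagGrp.FreeGraph
import Groth.Prelude
import Mathlib

/-!
# Groups isomorphic over an extension of an algebraically closed field are isomorphic
-/

set_option autoImplicit false
set_option backward.isDefEq.respectTransparency false
set_option linter.style.haveILetI false
universe u

open CategoryTheory CategoryTheory.Limits AlgebraicGeometry MonoidalCategory CartesianMonoidalCategory MonObj Opposite

noncomputable section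

namespace GrothLib.GrpLim14

/-- Base change along the identity. -/
def bcGrpId {S : Scheme.{u}} (G : Over S) [GrpObj G] : Grp.mk (Red.bc (𝟙 S) G) ≅ Grp.mk G :=
  (Functor.mapGrpNatIso (Over.pullbackId (X := S))).app (Grp.mk G) ≪≫ Functor.mapGrpIdIso.app (Grp.mk G)

section Iso

variable {I : Type u} [SmallCategory I] (D : I ⥤ Scheme.{u}) {c : Cone D} (hc : IsLimit c) [IsCofiltered I]
  [∀ (i i' : I) (f : i ⟶ i'), IsAffineHom (D.map f)] [∀ i, CompactSpace (D.obj i)]
  [∀ i, QuasiSeparatedSpace (D.obj i)]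

include hc in
/-- A homomorphism over a stage which is invertible over the limit is invertible over a later stage. -/
theorem exists_isIso_stage {i : I} {A B : Over (D.obj i)} [GrpObj A] [GrpObj B]
    [QuasiCompact A.hom] [QuasiSeparated A.hom] [LocallyOfFinitePresentation A.hom]
    [QuasiCompact B.hom] [QuasiSeparated B.hom] [LocallyOfFinitePresentation B.hom]
    (v : A ⟶ B) [IsMonHom v] [IsIso ((Over.pullback (c.π.app i)).map v)] :
    ∃ (i' : I) (g : i' ⟶ i), IsIso ((Over.pullback (D.map g)).map v) := by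
  let F := Over.pullback (c.π.app i)
  haveI : IsMonHom (inv (F.map v)) := inferInstanceAs (IsMonHom (asIso (F.map v)).inv)
  obtain ⟨k, f, w, -, hw⟩ := exists_hom_descend D hc (c := c) (j := i) B A (inv (F.map v))
  have key : (Over.pullback (c.π.app k)).map ((Over.pullback (D.map f)).map v) =
      (E (c.w f) A).hom ≫ F.map v ≫ (E (c.w f) B).inv := map_E (c.w f) v
  haveI : QuasiCompact (Red.bc (D.map f) A).hom := inferInstanceAs (QuasiCompact (pullback.snd _ _))
  haveI : QuasiSeparated (Red.bc (D.map f) A).hom := inferInstanceAs (QuasiSeparated (pullback.snd _ _))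
  haveI : LocallyOfFiniteType (Red.bc (D.map f) A).hom := inferInstanceAs (LocallyOfFiniteType (pullback.snd _ _))
  haveI : QuasiCompact (Red.bc (D.map f) B).hom := inferInstanceAs (QuasiCompact (pullback.snd _ _))
  haveI : QuasiSeparated (Red.bc (D.map f) B).hom := inferInstanceAs (QuasiSeparated (pullback.snd _ _))
  haveI : LocallyOfFiniteType (Red.bc (D.map f) B).hom := inferInstanceAs (LocallyOfFiniteType (pullback.snd _ _))
  obtain ⟨i₃, f₃, h3⟩ := exists_map_eq D hc (Red.bc (D.map f) A) (Red.bc (D.map f) A)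
    ((Over.pullback (D.map f)).map v ≫ w) (𝟙 _) (by
      rw [Functor.map_comp, key, hw, CategoryTheory.Functor.map_id]
      simp)
  obtain ⟨i₄, f₄, h4⟩ := exists_map_eq D hc (Red.bc (D.map f) B) (Red.bc (D.map f) B)
    (w ≫ (Over.pullback (D.map f)).map v) (𝟙 _) (by
      rw [Functor.map_comp, key, hw, CategoryTheory.Functor.map_id]
      simp)
  obtain ⟨i₅, g₃, g₄, hsq⟩ := IsCofiltered.cospan f₃ f₄
  have h3' := map_eq_of_comp (f := D.map f₃) (g := D.map g₃) (h := D.map (g₃ ≫ f₃)) (D.map_comp _ _).symm h3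
  have h4' := map_eq_of_comp (f := D.map f₄) (g := D.map g₄) (h := D.map (g₃ ≫ f₃))
    ((D.map_comp _ _).symm.trans (congrArg D.map hsq.symm)) h4
  refine ⟨i₅, (g₃ ≫ f₃) ≫ f, ?_⟩
  haveI : IsIso ((Over.pullback (D.map (g₃ ≫ f₃))).map ((Over.pullback (D.map f)).map v)) :=
    ⟨(Over.pullback (D.map (g₃ ≫ f₃))).map w,
      (((Over.pullback (D.map (g₃ ≫ f₃))).map_comp _ _).symm.trans h3').trans ((Over.pullback (D.map (g₃ ≫ f₃))).map_id _),
      (((Over.pullback (D.map (g₃ ≫ f₃))).map_comp _ _).symm.trans h4').trans ((Over.pullback (D.map (g₃ ≫ f₃))).map_id _)⟩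
  rw [map_E' (f := D.map f) (g := D.map (g₃ ≫ f₃)) (h := D.map ((g₃ ≫ f₃) ≫ f)) (D.map_comp _ _).symm v]
  infer_instance

include hc in
/-- Groups over the base of a limit isomorphic over the limit are isomorphic over a stage. -/
theorem exists_grpIso_stage {S : Scheme.{u}} (t : ∀ i, D.obj i ⟶ S)
    (ht : ∀ (i i' : I) (f : i ⟶ i'), D.map f ≫ t i' = t i) (q : c.pt ⟶ S) (j : I) (hq : q = c.π.app j ≫ t j)
    (G G' : Over S) [GrpObj G] [GrpObj G']
    [QuasiCompact G.hom] [QuasiSeparated G.hom] [LocallyOfFinitePresentation G.hom]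
    [QuasiCompact G'.hom] [QuasiSeparated G'.hom] [LocallyOfFinitePresentation G'.hom]
    (e : Grp.mk (Red.bc q G) ≅ Grp.mk (Red.bc q G')) :
    ∃ i : I, Nonempty (Grp.mk (Red.bc (t i) G) ≅ Grp.mk (Red.bc (t i) G')) := by
  haveI : QuasiCompact (Red.bc (t j) G).hom := inferInstanceAs (QuasiCompact (pullback.snd _ _))
  haveI : QuasiSeparated (Red.bc (t j) G).hom := inferInstanceAs (QuasiSeparated (pullback.snd _ _))
  haveI : LocallyOfFinitePresentation (Red.bc (t j) G).hom := inferInstanceAs (LocallyOfFinitePresentation (pullback.snd _ _))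
  haveI : QuasiCompact (Red.bc (t j) G').hom := inferInstanceAs (QuasiCompact (pullback.snd _ _))
  haveI : QuasiSeparated (Red.bc (t j) G').hom := inferInstanceAs (QuasiSeparated (pullback.snd _ _))
  haveI : LocallyOfFinitePresentation (Red.bc (t j) G').hom := inferInstanceAs (LocallyOfFinitePresentation (pullback.snd _ _))
  let u : Grp.mk (Red.bc (c.π.app j) (Red.bc (t j) G)) ≅ Grp.mk (Red.bc (c.π.app j) (Red.bc (t j) G')) :=
    (DiagGrp.bcGrpComp G (t j) (c.π.app j) q hq).symm ≪≫ e ≪≫ DiagGrp.bcGrpComp G' (t j) (c.π.app j) q hq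
  haveI : IsMonHom u.hom.hom.hom := inferInstanceAs (IsMonHom u.hom.hom.hom)
  haveI : IsIso u.hom.hom.hom := ((Grp.forget _).mapIso u).isIso_hom
  obtain ⟨i, f, v, hv, hv'⟩ := exists_hom_descend D hc (Red.bc (t j) G) (Red.bc (t j) G') u.hom.hom.hom
  haveI := hv
  haveI : QuasiCompact (Red.bc (D.map f) (Red.bc (t j) G)).hom := inferInstanceAs (QuasiCompact (pullback.snd _ _))
  haveI : QuasiSeparated (Red.bc (D.map f) (Red.bc (t j) G)).hom := inferInstanceAs (QuasiSeparated (pullback.snd _ _))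
  haveI : LocallyOfFinitePresentation (Red.bc (D.map f) (Red.bc (t j) G)).hom :=
    inferInstanceAs (LocallyOfFinitePresentation (pullback.snd _ _))
  haveI : QuasiCompact (Red.bc (D.map f) (Red.bc (t j) G')).hom := inferInstanceAs (QuasiCompact (pullback.snd _ _))
  haveI : QuasiSeparated (Red.bc (D.map f) (Red.bc (t j) G')).hom := inferInstanceAs (QuasiSeparated (pullback.snd _ _))
  haveI : LocallyOfFinitePresentation (Red.bc (D.map f) (Red.bc (t j) G')).hom :=
    inferInstanceAs (LocallyOfFinitePresentation (pullback.snd _ _))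
  haveI : IsIso ((Over.pullback (c.π.app i)).map v) := by
    rw [hv']
    infer_instance
  obtain ⟨i', g, hg⟩ := exists_isIso_stage D hc v
  haveI := hg
  have h : t i' = (D.map g ≫ D.map f) ≫ t j := by rw [Category.assoc, ht, ht]
  let φ := asIso ((Over.pullback (D.map g)).map v)
  haveI : IsMonHom φ.hom := inferInstanceAs (IsMonHom ((Over.pullback (D.map g)).map v))
  exact ⟨i', ⟨DiagGrp.bcGrpComp G (t j) (D.map g ≫ D.map f) _ h ≪≫
    DiagGrp.bcGrpComp (Red.bc (t j) G) (D.map f) (D.map g) _ rfl ≪≫ Grp.mkIso' φ ≪≫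
    (DiagGrp.bcGrpComp (Red.bc (t j) G') (D.map f) (D.map g) _ rfl).symm ≪≫
    (DiagGrp.bcGrpComp G' (t j) (D.map g ≫ D.map f) _ h).symm⟩⟩

end Iso

variable (K L : Type u) [Field K] [Field L] [Algebra K L]

/-- The finitely generated subalgebras. -/
def FgSub : Type u := {A : Subalgebra K L // A.FG}

instance : PartialOrder (FgSub K L) := inferInstanceAs (PartialOrder {A : Subalgebra K L // A.FG})

instance : IsDirected (FgSub K L) (· ≤ ·) :=
  ⟨fun a b => ⟨⟨a.1 ⊔ b.1, a.2.sup b.2⟩, show a.1 ≤ a.1 ⊔ b.1 from le_sup_left,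
    show b.1 ≤ a.1 ⊔ b.1 from le_sup_right⟩⟩

instance : Nonempty (FgSub K L) := ⟨⟨⊥, Subalgebra.fg_bot⟩⟩

def fgFunctor : FgSub K L ⥤ CommRingCat.{u} where
  obj a := CommRingCat.of ↥a.1
  map h := CommRingCat.ofHom (Subalgebra.inclusion (leOfHom h)).toRingHom
  map_id _ := rfl
  map_comp _ _ := rfl

def fgCocone : Cocone (fgFunctor K L) :=
  ⟨CommRingCat.of L,
    { app := fun a => CommRingCat.ofHom (algebraMap ↥a.1 L)
      naturality := fun _ _ _ => rfl }⟩

def isColimitFgCocone : IsColimit (fgCocone K L) := by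
  haveI := reflectsColimit_of_reflectsIsomorphisms (fgFunctor K L) (forget CommRingCat)
  refine isColimitOfReflects (forget CommRingCat) (Types.FilteredColimit.isColimitOf _ _ (fun z => ?_) ?_)
  · let z' : L := z
    exact ⟨⟨Algebra.adjoin K ((({z'} : Finset L)) : Set L), Subalgebra.fg_adjoin_finset _⟩,
      ⟨z', Algebra.subset_adjoin (Finset.mem_coe.2 (Finset.mem_singleton_self z'))⟩, rfl⟩
  · intro a b x y h
    obtain ⟨c, hac, hbc⟩ := exists_ge_ge a b
    exact ⟨c, homOfLE hac, homOfLE hbc, Subtype.ext h⟩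

def fgDiagram : (FgSub K L)ᵒᵖ ⥤ Scheme.{u} := (fgFunctor K L).op ⋙ Scheme.Spec

def fgCone : Cone (fgDiagram K L) := Scheme.Spec.mapCone (fgCocone K L).op

def isLimitFgCone : IsLimit (fgCone K L) :=
  isLimitOfPreserves Scheme.Spec (isColimitFgCocone K L).op

instance (i j : (FgSub K L)ᵒᵖ) (f : i ⟶ j) : IsAffineHom ((fgDiagram K L).map f) :=
  haveI : IsAffine ((fgDiagram K L).obj i) := inferInstanceAs (IsAffine (Spec _))
  haveI : IsAffine ((fgDiagram K L).obj j) := inferInstanceAs (IsAffine (Spec _))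
  isAffineHom_of_isAffine _

instance (i : (FgSub K L)ᵒᵖ) : CompactSpace ((fgDiagram K L).obj i) := inferInstanceAs (CompactSpace (Spec _))
instance (i : (FgSub K L)ᵒᵖ) : QuasiSeparatedSpace ((fgDiagram K L).obj i) :=
  inferInstanceAs (QuasiSeparatedSpace (Spec _))

def toK (i : (FgSub K L)ᵒᵖ) : (fgDiagram K L).obj i ⟶ Spec (CommRingCat.of K) :=
  Spec.map (CommRingCat.ofHom (algebraMap K ↥i.unop.1))

theorem map_toK {i j : (FgSub K L)ᵒᵖ} (f : i ⟶ j) : (fgDiagram K L).map f ≫ toK K L j = toK K L i :=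
  ((Spec.map_comp _ _).symm : _)

theorem cone_toK (i : (FgSub K L)ᵒᵖ) :
    (fgCone K L).π.app i ≫ toK K L i = Spec.map (CommRingCat.ofHom (algebraMap K L)) :=
  ((Spec.map_comp _ _).symm : _)

theorem exists_point [IsAlgClosed K] (i : (FgSub K L)ᵒᵖ) :
    ∃ p : Spec (CommRingCat.of K) ⟶ (fgDiagram K L).obj i, p ≫ toK K L i = 𝟙 _ := by
  haveI : Algebra.FiniteType K ↥i.unop.1 := ⟨(Subalgebra.fg_top i.unop.1).2 i.unop.2⟩
  obtain ⟨M, hM⟩ := Ideal.exists_maximal ↥i.unop.1
  letI := Ideal.Quotient.field M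
  haveI : Module.Finite K (↥i.unop.1 ⧸ M) := finite_of_finite_type_of_isJacobsonRing _ _
  let χ : ↥i.unop.1 →ₐ[K] K :=
    (AlgEquiv.ofBijective (Algebra.ofId K (↥i.unop.1 ⧸ M))
      (IsAlgClosed.algebraMap_bijective_of_isIntegral (k := K))).symm.toAlgHom.comp (Ideal.Quotient.mkₐ K M)
  refine ⟨Spec.map (CommRingCat.ofHom χ.toRingHom), ?_⟩
  rw [toK, ← Spec.map_comp, ← Spec.map_id]
  congr 1
  exact CommRingCat.hom_ext (RingHom.ext fun c => χ.commutes c)

/-- **Isomorphy of finitely presented groups descends to an algebraically closed subfield.** -/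
theorem nonempty_grpIso_of_algClosed [IsAlgClosed K] (G G' : Over (Spec (CommRingCat.of K))) [GrpObj G] [GrpObj G']
    [QuasiCompact G.hom] [QuasiSeparated G.hom] [LocallyOfFinitePresentation G.hom]
    [QuasiCompact G'.hom] [QuasiSeparated G'.hom] [LocallyOfFinitePresentation G'.hom]
    (h : Nonempty (Grp.mk (Red.bc (Spec.map (CommRingCat.ofHom (algebraMap K L))) G) ≅
      Grp.mk (Red.bc (Spec.map (CommRingCat.ofHom (algebraMap K L))) G'))) :
    Nonempty (Grp.mk G ≅ Grp.mk G') := by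
  obtain ⟨e⟩ := h
  obtain ⟨i, ⟨φ⟩⟩ := exists_grpIso_stage (fgDiagram K L) (isLimitFgCone K L) (toK K L)
    (fun _ _ f => map_toK K L f) _ (op ⟨⊥, Subalgebra.fg_bot⟩) (cone_toK K L _).symm G G' e
  obtain ⟨p, hp⟩ := exists_point K L i
  exact ⟨(bcGrpId G).symm ≪≫ DiagGrp.bcGrpComp G (toK K L i) p _ hp.symm ≪≫
    (Over.pullback p).mapGrp.mapIso φ ≪≫
    (DiagGrp.bcGrpComp G' (toK K L i) p _ hp.symm).symm ≪≫ bcGrpId G'⟩

end GrothLib.GrpLim14
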