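import Groth.Agent.Lib.GrpLim14.Torsor
import Groth.Agent.Lib.LimDesc.Finite
import Groth.Agent.Lib.Torsor21.Local
import Groth.Agent.Lib.CartTorsor.Geom
import Groth.Agent.Lib.AlgSp.FppfDescent
import Groth.Prelude

/-!
# Finite torsors over a limit come from a stage
-/

set_option autoImplicit false
set_option backward.isDefEq.respectTransparency false
set_option linter.style.haveILetI false
universe u

open CategoryTheory CategoryTheory.Limits AlgebraicGeometry
open MonoidalCategory CartesianMonoidalCategory MonObj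

noncomputable section

namespace GrothLib.GrpLim14

variable {T T' : Scheme.{u}}

/-- An action morphism matches an action over the limit. -/
def ActMatch {S' : Scheme.{u}} (π : T ⟶ S') {GT V : Over T} [GrpObj GT] (a : AlgGrp.Action GT V) {G' H : Over S'}
    (ψ : (Over.pullback π).obj G' ⟶ GT) (φ : V ≅ (Over.pullback π).obj H) (m : G' ⊗ H ⟶ H) : Prop :=
  Functor.LaxMonoidal.μ (Over.pullback π) G' H ≫ (Over.pullback π).map m = (ψ ⊗ₘ φ.inv) ≫ a.act ≫ φ.hom

variable {S' S'' : Scheme.{u}} {π : T ⟶ S'} {π' : T ⟶ S''} {GT V : Over T} [GrpObj GT] {a : AlgGrp.Action GT V}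
  {G' H : Over S'} {ψ : (Over.pullback π).obj G' ⟶ GT} {φ : V ≅ (Over.pullback π).obj H} {m : G' ⊗ H ⟶ H}

theorem ActMatch.shift (h : ActMatch π a ψ φ m) {g : S'' ⟶ S'} (hg : π' ≫ g = π) :
    ActMatch π' a ((E hg G').hom ≫ ψ) (φ ≪≫ (E hg H).symm)
      (Functor.LaxMonoidal.μ (Over.pullback g) G' H ≫ (Over.pullback g).map m) := by
  show _ = (((E hg G').hom ≫ ψ) ⊗ₘ ((E hg H).hom ≫ φ.inv)) ≫ a.act ≫ φ.hom ≫ (E hg H).inv
  rw [Functor.map_comp, map_E hg m, reassoc_of% (μ_E hg G' H), reassoc_of% h, ← tensorHom_comp_tensorHom]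
  simp only [Category.assoc]

theorem ActMatch.precomp (h : ActMatch π a ψ φ m) {G'' : Over S'} (k : G'' ⟶ G') :
    ActMatch π a ((Over.pullback π).map k ≫ ψ) φ ((k ▷ H) ≫ m) := by
  show _ = _
  rw [Functor.map_comp, ← Functor.LaxMonoidal.μ_natural_left_assoc, h, ← Category.assoc, ← tensorHom_id,
    tensorHom_comp_tensorHom, Category.id_comp]

theorem ActMatch.app (h : ActMatch π a ψ φ m) {A : Over S'} (x : A ⟶ G') (y : A ⟶ H) :
    (Over.pullback π).map (lift x y ≫ m) =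
      lift ((Over.pullback π).map x ≫ ψ) ((Over.pullback π).map y ≫ φ.inv) ≫ a.act ≫ φ.hom := by
  rw [Functor.map_comp, ← Functor.Monoidal.lift_μ, Category.assoc, h, lift_map_assoc]

/-- Coherence of the identifications of iterated base changes. -/
theorem E_bcCompIso {S : Scheme.{u}} {g : S'' ⟶ S'} (hg : π' ≫ g = π) {t' : S' ⟶ S} {t'' : S'' ⟶ S}
    (ht : g ≫ t' = t'') {q : T ⟶ S} (h' : π ≫ t' = q) (h'' : π' ≫ t'' = q) (G : Over S) :
    (Over.pullback π').map (ActBC.bcCompIso g t' G ht).inv ≫ (E hg (Red.bc t' G)).hom ≫ (ActBC.bcCompIso π t' G h').hom =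
      (ActBC.bcCompIso π' t'' G h'').hom := by
  have key : (E hg (Red.bc t' G)).hom ≫ (ActBC.bcCompIso π t' G h').hom =
      (Over.pullback π').map (ActBC.bcCompIso g t' G ht).hom ≫ (ActBC.bcCompIso π' t'' G h'').hom := by
    refine Over.OverMorphism.ext (pullback.hom_ext ?_ ?_)
    · rw [Over.comp_left, Over.comp_left, Category.assoc, Category.assoc, ActBC.bcCompIso_hom_left_fst,
        ActBC.bcCompIso_hom_left_fst, ActBC.pullback_map_left_fst_assoc, ActBC.bcCompIso_hom_left_fst,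
        reassoc_of% (E_hom_fst hg (Red.bc t' G))]
    · exact (Over.w ((E hg (Red.bc t' G)).hom ≫ (ActBC.bcCompIso π t' G h').hom)).trans
        (Over.w ((Over.pullback π').map (ActBC.bcCompIso g t' G ht).hom ≫ (ActBC.bcCompIso π' t'' G h'').hom)).symm
  rw [key, ← Functor.map_comp_assoc, Iso.inv_hom_id, CategoryTheory.Functor.map_id, Category.id_comp]

variable {I : Type u} [SmallCategory I] (D : I ⥤ Scheme.{u}) {c : Cone D} (hc : IsLimit c) [IsCofiltered I]
  [∀ (i i' : I) (f : i ⟶ i'), IsAffineHom (D.map f)] [∀ i, CompactSpace (D.obj i)]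
  [∀ i, QuasiSeparatedSpace (D.obj i)] {S : Scheme.{u}} (t : ∀ i, D.obj i ⟶ S)
  (ht : ∀ (i i' : I) (f : i ⟶ i'), D.map f ≫ t i' = t i) (q : c.pt ⟶ S) (hq : ∀ i, c.π.app i ≫ t i = q)

include hc in
/-- A finite scheme of finite presentation over the limit comes from a finite one over a stage. -/
theorem exists_finite_model (X : Over c.pt) [IsFinite X.hom] [LocallyOfFinitePresentation X.hom] :
    ∃ (i : I) (H : Over (D.obj i)) (_ : X ≅ (Over.pullback (c.π.app i)).obj H),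
      LocallyOfFinitePresentation H.hom ∧ QuasiCompact H.hom ∧ QuasiSeparated H.hom ∧ IsFinite H.hom := by
  obtain ⟨i, H, φ, _, _, _⟩ := exists_model_over X hc
  haveI : CompactSpace H.left := QuasiCompact.compactSpace_of_compactSpace H.hom
  haveI : QuasiSeparatedSpace H.left := quasiSeparatedSpace_of_quasiSeparated H.hom
  haveI : IsFinite (pullback.snd H.hom (c.π.app i)) := by
    have e : pullback.snd H.hom (c.π.app i) = φ.inv.left ≫ X.hom := (Over.w φ.inv).symm
    rw [e]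
    infer_instance
  obtain ⟨j, hj⟩ := GrothLib.LimDesc.exists_isFinite_snd D hc H.hom (IsPullback.of_hasPullback H.hom (c.π.app i))
  obtain ⟨a, b, d⟩ := fp_map (D.map j.hom) H
  exact ⟨j.left, (Over.pullback (D.map j.hom)).obj H, shiftIso' φ j.hom, a, b, d, hj⟩
where
  shiftIso' {X : Over c.pt} {i k : I} {H : Over (D.obj i)} (φ : X ≅ (Over.pullback (c.π.app i)).obj H) (f : k ⟶ i) :
      X ≅ (Over.pullback (c.π.app k)).obj ((Over.pullback (D.map f)).obj H) :=
    φ ≪≫ (E (c.w f) H).symm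

include hc ht in
/-- **A finite torsor over the limit comes from a stage.** -/
theorem exists_torsor_stage (G : Over S) [GrpObj G] [IsFinite G.hom] [LocallyOfFinitePresentation G.hom] [Flat G.hom]
    (V : Over c.pt) [IsFinite V.hom] (a : AlgGrp.Action (Red.bc q G) V)
    (hV : NonAbH1.IsTorsorFor Scheme.fpqcPrecoverage a) :
    ∃ (i : I) (Vi : Over (D.obj i)) (ai : AlgGrp.Action (Red.bc (t i) G) Vi),
      IsFinite Vi.hom ∧ NonAbH1.IsTorsorFor Scheme.fpqcPrecoverage ai ∧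
      Nonempty (NonAbH1.EquivIso (ai.bc (c.π.app i))
        (a.restrict (ActBC.bcCompIso (c.π.app i) (t i) G (hq i)).hom)) := by
  haveI : LocallyOfFinitePresentation (Red.bc q G).hom := inferInstanceAs (LocallyOfFinitePresentation (pullback.snd _ _))
  haveI : Flat (Red.bc q G).hom := inferInstanceAs (Flat (pullback.snd _ _))
  haveI := HasRingHomProperty.descendsAlong_flat (P := @Flat) GrothLib.AlgSp.codescendsAlong_flat
  haveI : LocallyOfFinitePresentation V.hom := GrothLib.Torsor21.property @LocallyOfFinitePresentation hV inferInstance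
  haveI : Flat V.hom := GrothLib.Torsor21.property @Flat hV inferInstance
  haveI : Surjective V.hom := GrothLib.Torsor21.surjective_hom hV
  obtain ⟨i, H₀, φ₀, _, _, _, _⟩ := exists_finite_model D hc V
  let G₀ := Red.bc (t i) G
  haveI : LocallyOfFinitePresentation G₀.hom := inferInstanceAs (LocallyOfFinitePresentation (pullback.snd _ _))
  haveI : QuasiCompact G₀.hom := inferInstanceAs (QuasiCompact (pullback.snd _ _))
  haveI : QuasiSeparated G₀.hom := inferInstanceAs (QuasiSeparated (pullback.snd _ _))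
  haveI : QuasiCompact (G₀ ⊗ H₀).hom := by rw [Over.tensorObj_hom]; infer_instance
  haveI : QuasiSeparated (G₀ ⊗ H₀).hom := by rw [Over.tensorObj_hom]; infer_instance
  haveI : IsIso (Functor.LaxMonoidal.μ (Over.pullback (c.π.app i)) G₀ H₀) :=
    inferInstanceAs (IsIso (Functor.Monoidal.μIso (Over.pullback (c.π.app i)) G₀ H₀).hom)
  obtain ⟨k, g, v, hv⟩ := exists_descend D hc (G₀ ⊗ H₀) H₀ (inv (Functor.LaxMonoidal.μ (Over.pullback (c.π.app i)) G₀ H₀) ≫
    ((ActBC.bcCompIso (c.π.app i) (t i) G (hq i)).hom ⊗ₘ φ₀.inv) ≫ a.act ≫ φ₀.hom)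
  let H := (Over.pullback (D.map g)).obj H₀
  let φ : V ≅ (Over.pullback (c.π.app k)).obj H := φ₀ ≪≫ (E (c.w g) H₀).symm
  let ψ := (ActBC.bcCompIso (c.π.app k) (t k) G (hq k)).hom
  let cgk := (ActBC.bcCompIso (D.map g) (t i) G (ht _ _ g)).inv
  let m : Red.bc (t k) G ⊗ H ⟶ H := (cgk ▷ H) ≫ Functor.LaxMonoidal.μ (Over.pullback (D.map g)) G₀ H₀ ≫ v
  have h₀ : ActMatch (c.π.app k) a ((E (c.w g) G₀).hom ≫ (ActBC.bcCompIso (c.π.app i) (t i) G (hq i)).hom) φ
      (Functor.LaxMonoidal.μ (Over.pullback (D.map g)) G₀ H₀ ≫ v) := by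
    show _ = (_ ⊗ₘ ((E (c.w g) H₀).hom ≫ φ₀.inv)) ≫ a.act ≫ φ₀.hom ≫ (E (c.w g) H₀).inv
    rw [Functor.map_comp, hv, reassoc_of% (μ_E (c.w g) G₀ H₀), ← tensorHom_comp_tensorHom]
    simp
  have hm : ActMatch (c.π.app k) a ψ φ m := by
    have := h₀.precomp cgk
    rwa [E_bcCompIso (c.w g) (ht _ _ g) (hq i) (hq k) G] at this
  obtain ⟨hH₁, hH₂, hH₃⟩ := fp_map (D.map g) H₀
  haveI hH₄ : IsFinite H.hom := inferInstanceAs (IsFinite (pullback.snd _ _))
  let Gk := Red.bc (t k) G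
  haveI : LocallyOfFinitePresentation Gk.hom := inferInstanceAs (LocallyOfFinitePresentation (pullback.snd _ _))
  haveI : QuasiCompact Gk.hom := inferInstanceAs (QuasiCompact (pullback.snd _ _))
  haveI : QuasiSeparated Gk.hom := inferInstanceAs (QuasiSeparated (pullback.snd _ _))
  haveI : LocallyOfFinitePresentation (Gk ⊗ H).hom := by rw [Over.tensorObj_hom]; infer_instance
  haveI : QuasiCompact (Gk ⊗ H).hom := by rw [Over.tensorObj_hom]; infer_instance
  haveI : QuasiSeparated (Gk ⊗ H).hom := by rw [Over.tensorObj_hom]; infer_instance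
  haveI : LocallyOfFinitePresentation (H ⊗ H).hom := by rw [Over.tensorObj_hom]; infer_instance
  haveI : QuasiCompact (H ⊗ H).hom := by rw [Over.tensorObj_hom]; infer_instance
  haveI : QuasiSeparated (H ⊗ H).hom := by rw [Over.tensorObj_hom]; infer_instance
  haveI : QuasiCompact (Gk ⊗ Gk).hom := by rw [Over.tensorObj_hom]; infer_instance
  haveI : QuasiSeparated (Gk ⊗ Gk).hom := by rw [Over.tensorObj_hom]; infer_instance
  haveI : QuasiCompact ((Gk ⊗ Gk) ⊗ H).hom := by rw [Over.tensorObj_hom]; infer_instance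
  haveI : QuasiSeparated ((Gk ⊗ Gk) ⊗ H).hom := by rw [Over.tensorObj_hom]; infer_instance
  haveI : IsMonHom ψ := inferInstanceAs (IsMonHom (ActBC.bcCompIso (c.π.app k) (t k) G (hq k)).hom)
  -- the laws
  let x₁ := fst (Gk ⊗ Gk) H ≫ fst Gk Gk
  let x₂ := fst (Gk ⊗ Gk) H ≫ snd Gk Gk
  let y₃ := snd (Gk ⊗ Gk) H
  obtain ⟨k₁, f₁, h₁⟩ := exists_map_eq D hc _ H (lift (1 : H ⟶ Gk) (𝟙 H) ≫ m) (𝟙 H) (by
    rw [hm.app]
    simp only [Functor.map_one, MonObj.one_comp, AlgGrp.Action.lift_one_act_assoc, CategoryTheory.Functor.map_id,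
      Category.id_comp, Iso.inv_hom_id])
  obtain ⟨k₂, f₂, h₂⟩ := exists_map_eq D hc _ H (lift (x₁ * x₂) y₃ ≫ m) (lift x₁ (lift x₂ y₃ ≫ m) ≫ m) (by
    rw [hm.app, hm.app, hm.app, Functor.map_mul, MonObj.mul_comp, AlgGrp.Action.lift_mul_act_assoc]
    simp)
  -- the shear map is invertible
  haveI : IsIso ((Over.pullback (c.π.app k)).map (lift m (snd Gk H))) := by
    rw [← isIso_shear_iff, show Functor.LaxMonoidal.μ (Over.pullback (c.π.app k)) Gk H ≫ (Over.pullback (c.π.app k)).map m = _ from hm]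
    haveI : IsIso (lift a.act (snd (Red.bc q G) V)) := hV.1
    haveI : IsIso ψ := inferInstanceAs (IsIso (ActBC.bcCompIso (c.π.app k) (t k) G (hq k)).hom)
    have e : lift ((ψ ⊗ₘ φ.inv) ≫ a.act ≫ φ.hom) (snd (Red.bc (c.π.app k) Gk) (Red.bc (c.π.app k) H)) =
        (ψ ⊗ₘ φ.inv) ≫ lift a.act (snd (Red.bc q G) V) ≫ (φ.hom ⊗ₘ φ.hom) := by
      rw [lift_map, comp_lift]
      simp
      rfl
    rw [e]
    infer_instance
  obtain ⟨k₃, f₃, h₃⟩ := exists_isIso_of_map D hc (lift m (snd Gk H))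
  -- flat and surjective
  haveI : LocallyOfFinitePresentation (𝟙_ (Over (D.obj k))).hom := inferInstanceAs (LocallyOfFinitePresentation (𝟙 (D.obj k)))
  haveI : QuasiCompact (𝟙_ (Over (D.obj k))).hom := inferInstanceAs (QuasiCompact (𝟙 (D.obj k)))
  haveI : QuasiSeparated (𝟙_ (Over (D.obj k))).hom := inferInstanceAs (QuasiSeparated (𝟙 (D.obj k)))
  have hFH : ((Over.pullback (c.π.app k)).obj H).hom = φ.inv.left ≫ V.hom := (Over.w φ.inv).symm
  haveI : Flat ((Over.pullback (c.π.app k)).map (toUnit H)).left :=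
    (prop_hom_iff @Flat _ _).2 (by rw [hFH]; infer_instance)
  haveI : Surjective ((Over.pullback (c.π.app k)).map (toUnit H)).left :=
    (prop_hom_iff @Surjective _ _).2 (by rw [hFH]; infer_instance)
  obtain ⟨k₄, f₄, h₄⟩ := exists_flat_of_map D hc (toUnit H)
  obtain ⟨k₅, f₅, h₅⟩ := exists_surjective_of_map D hc (toUnit H)
  obtain ⟨m₁, g₁, g₂, w₁⟩ := IsCofiltered.cospan f₁ f₂
  obtain ⟨m₂, g₃, g₄, w₂⟩ := IsCofiltered.cospan f₃ f₄
  obtain ⟨m₃, g₅, g₆, w₃⟩ := IsCofiltered.cospan (g₁ ≫ f₁) (g₃ ≫ f₃)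
  obtain ⟨l, g₇, g₈, w₄⟩ := IsCofiltered.cospan (g₅ ≫ g₁ ≫ f₁) f₅
  let r := g₇ ≫ g₅ ≫ g₁ ≫ f₁
  have hD : ∀ {j : I} {f : j ⟶ k} (p : l ⟶ j), p ≫ f = r → D.map p ≫ D.map f = D.map r :=
    fun p hp => (D.map_comp _ _).symm.trans (congrArg D.map hp)
  have e1 := map_eq_of_comp (hD (g₇ ≫ g₅ ≫ g₁) (by simp [r])) h₁
  have e2 := map_eq_of_comp (hD (g₇ ≫ g₅ ≫ g₂) (by simp [r, w₁])) h₂
  have d3 : D.map (g₇ ≫ g₆ ≫ g₃) ≫ D.map f₃ = D.map r := hD _ (by simp [r, w₃])
  haveI e3 := (haveI := h₃; isIso_map_comp d3 (lift m (snd Gk H)))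
  have e4 := prop_map_comp @Flat (hD (g₇ ≫ g₆ ≫ g₄) (by simp [r, w₃, w₂])) (toUnit H) h₄
  have e5 := prop_map_comp @Surjective (hD g₈ (by simp [r, w₄])) (toUnit H) h₅
  -- the action at the last stage
  let Vi := (Over.pullback (D.map r)).obj H
  haveI : IsFinite Vi.hom := inferInstanceAs (IsFinite (pullback.snd _ _))
  let m' := Functor.LaxMonoidal.μ (Over.pullback (D.map r)) Gk H ≫ (Over.pullback (D.map r)).map m
  have hPm : ∀ {A : Over (D.obj k)} {Y : Over (D.obj l)} (z : Y ⟶ (Over.pullback (D.map r)).obj A) (x : A ⟶ Gk)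
      (y : A ⟶ H), z ≫ (Over.pullback (D.map r)).map (lift x y ≫ m) =
      lift (z ≫ (Over.pullback (D.map r)).map x) (z ≫ (Over.pullback (D.map r)).map y) ≫ m' := by
    intro A Y z x y
    rw [(Over.pullback (D.map r)).map_comp (lift x y) m, ← Functor.Monoidal.lift_μ, ← comp_lift]
    simp only [m', Category.assoc]
  have hone : ∀ {Y : Over (D.obj l)} (y : Y ⟶ Vi), lift (1 : Y ⟶ Red.bc (D.map r) Gk) y ≫ m' = y := by
    intro Y y
    have := congrArg (y ≫ ·) e1
    simp only [hPm, Functor.map_one, MonObj.comp_one, CategoryTheory.Functor.map_id] at this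
    erw [Category.comp_id y] at this
    exact this
  have hact : ∀ {Y : Over (D.obj l)} (p₁ p₂ : Y ⟶ Red.bc (D.map r) Gk) (y : Y ⟶ Vi),
      lift (p₁ * p₂) y ≫ m' = lift p₁ (lift p₂ y ≫ m') ≫ m' := by
    intro Y p₁ p₂ y
    let z : Y ⟶ (Over.pullback (D.map r)).obj ((Gk ⊗ Gk) ⊗ H) :=
      lift (lift p₁ p₂ ≫ Functor.LaxMonoidal.μ (Over.pullback (D.map r)) Gk Gk) y ≫
        Functor.LaxMonoidal.μ (Over.pullback (D.map r)) (Gk ⊗ Gk) H
    have z1 : z ≫ (Over.pullback (D.map r)).map x₁ = p₁ := by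
      simp [z, x₁]
      erw [lift_fst_assoc, Category.assoc]
      simp
    have z2 : z ≫ (Over.pullback (D.map r)).map x₂ = p₂ := by
      simp [z, x₂]
      erw [lift_fst_assoc, Category.assoc]
      simp
    have z3 : z ≫ (Over.pullback (D.map r)).map y₃ = y := by
      simp [z, y₃]
    have := congrArg (z ≫ ·) e2
    simpa only [hPm, Functor.map_mul, MonObj.comp_mul, z1, z2, z3] using this
  let b : AlgGrp.Action (Red.bc (D.map r) Gk) Vi :=
    { act := m'
      one_act := by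
        have := hone (snd (𝟙_ (Over (D.obj l))) Vi)
        rw [Hom.one_def, toUnit_unique (toUnit _) (fst (𝟙_ (Over (D.obj l))) Vi)] at this
        rw [leftUnitor_hom]
        refine Eq.trans ?_ this
        congr 1
      mul_act := by
        apply AlgGrp.Action.hom_ext_lift₃
        intro Y p₁ p₂ y
        rw [lift_whiskerRight_assoc, lift_lift_associator_hom_assoc, lift_whiskerLeft_assoc, ← Hom.mul_def]
        exact hact p₁ p₂ y }
  let cl := (ActBC.bcCompIso (D.map r) (t k) G (ht _ _ r)).symm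
  haveI : IsMonHom cl.hom := inferInstanceAs (IsMonHom (ActBC.bcCompIso (D.map r) (t k) G (ht _ _ r)).inv)
  refine ⟨l, Vi, b.restrict cl.hom, inferInstance, ⟨?_, ?_⟩, ⟨⟨(φ ≪≫ (E (c.w r) H).symm).symm, ?_⟩⟩⟩
  · show IsIso (lift ((cl.hom ▷ Vi) ≫ m') (snd (Red.bc (t l) G) Vi))
    haveI : IsIso (lift m' (snd (Red.bc (D.map r) Gk) Vi)) := (isIso_shear_iff (D.map r) m).2 e3
    rw [show lift ((cl.hom ▷ Vi) ≫ m') (snd (Red.bc (t l) G) Vi) = (cl.hom ▷ Vi) ≫ lift m' (snd (Red.bc (D.map r) Gk) Vi) by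
      rw [comp_lift, whiskerRight_snd]]
    infer_instance
  · haveI : Flat Vi.hom := (prop_hom_iff @Flat _ _).1 e4
    haveI : Surjective Vi.hom := (prop_hom_iff @Surjective _ _).1 e5
    exact GrothLib.CartTorsor.isLocallyTrivialFor_of_flat Vi.hom
  · have hl := (hm.shift (c.w r)).precomp cl.hom
    rw [show (Over.pullback (c.π.app l)).map cl.hom ≫ (E (c.w r) Gk).hom ≫ ψ = _ from
      E_bcCompIso (c.w r) (ht _ _ r) (hq k) (hq l) G] at hl
    simp only [AlgGrp.Action.bc_act, AlgGrp.Action.restrict_act, Iso.symm_hom]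
    rw [show (b.act) = m' from rfl]
    refine (congrArg (· ≫ _) (show _ = _ from hl)).trans ?_
    simp [tensorHom_def']

end GrothLib.GrpLim14
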