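import Groth.Agent.Lib.GrpLim14.Stage
import Groth.Agent.Lib.Neutral.Constructible
import Groth.Agent.S5326
import Groth.Prelude

/-!
# The neutral component over a limit
-/

set_option autoImplicit false
set_option backward.isDefEq.respectTransparency false
set_option linter.style.haveILetI false
universe u

open CategoryTheory CategoryTheory.Limits AlgebraicGeometry Topology
open MonoidalCategory CartesianMonoidalCategory

noncomputable section

namespace GrothLib.GrpLim14

open GrothLib.LimDesc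

variable {S : Scheme.{u}} (G : Over S) [GrpObj G]

/-- The neutral component is representable. -/
def NeutralRep : Prop :=
  ∃ (G0 : Over S) (i0 : G0 ⟶ G), Mono i0 ∧
    ∀ (T : Over S) (g : T ⟶ G), (∃ z : T ⟶ G0, z ≫ i0 = g) ↔ Set.range g.left.base ⊆ SGA3x.neutralSet G

theorem NeutralRep.of_isOpen (h : IsOpen (SGA3x.neutralSet G)) : NeutralRep G := by
  let U : G.left.Opens := ⟨SGA3x.neutralSet G, h⟩
  refine ⟨Over.mk (U.ι ≫ G.hom), Over.homMk U.ι rfl, ?_, fun T g => ⟨?_, fun hg => ?_⟩⟩
  · haveI : Mono (Over.homMk (U := Over.mk (U.ι ≫ G.hom)) U.ι rfl : Over.mk (U.ι ≫ G.hom) ⟶ G).left :=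
      inferInstanceAs (Mono U.ι)
    exact Over.mono_of_mono_left _
  · rintro ⟨z, rfl⟩
    rintro _ ⟨t, rfl⟩
    exact (z.left t).2
  · have hr : Set.range g.left.base ⊆ Set.range U.ι := by rw [Scheme.Opens.range_ι]; exact hg
    exact ⟨Over.homMk (IsOpenImmersion.lift U.ι g.left hr) (by simp),
      Over.OverMorphism.ext (IsOpenImmersion.lift_fac _ _ _)⟩

theorem NeutralRep.isOpen_and_isCompact [LocallyOfFinitePresentation G.hom] [CompactSpace S] (h : NeutralRep G) :
    IsOpen (SGA3x.neutralSet G) ∧ IsCompact (SGA3x.neutralSet G) := by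
  obtain ⟨G0, i0, _, hrep⟩ := h
  obtain ⟨_, _⟩ := Groth.Agent.S5326.result S G G0 i0 hrep
  have e : Set.range i0.left.base = SGA3x.neutralSet G := by
    refine Set.Subset.antisymm ((hrep G0 i0).1 ⟨𝟙 _, Category.id_comp _⟩) fun x hx => ?_
    obtain ⟨z, hz⟩ := (hrep (Over.mk (G.left.fromSpecResidueField x ≫ G.hom))
      (Over.homMk (G.left.fromSpecResidueField x) rfl)).2 (by
      rintro _ ⟨p, rfl⟩
      show G.left.fromSpecResidueField x p ∈ _
      rw [Scheme.fromSpecResidueField_apply]
      exact hx)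
    refine ⟨z.left (IsLocalRing.closedPoint _), ?_⟩
    rw [← Scheme.Hom.comp_apply, ← Over.comp_left, hz]
    exact Scheme.fromSpecResidueField_apply _ _
  haveI : CompactSpace G0.left := QuasiCompact.compactSpace_of_compactSpace G0.hom
  rw [← e]
  exact ⟨i0.left.isOpenEmbedding.isOpen_range, isCompact_range i0.left.continuous⟩

variable {I : Type u} [SmallCategory I] (D : I ⥤ Scheme.{u}) {c : Cone D} (hc : IsLimit c) [IsCofiltered I]
  [∀ (i i' : I) (f : i ⟶ i'), IsAffineHom (D.map f)] [∀ i, CompactSpace (D.obj i)]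
  [∀ i, QuasiSeparatedSpace (D.obj i)]

include hc in
/-- **The neutral component is representable over the limit iff it is over a stage.** -/
theorem neutralRep_iff {j : I} (Gj : Over (D.obj j)) [GrpObj Gj]
    [LocallyOfFinitePresentation Gj.hom] [QuasiCompact Gj.hom] [QuasiSeparated Gj.hom] :
    NeutralRep (Red.bc (c.π.app j) Gj) ↔ ∃ (i : I) (f : i ⟶ j), NeutralRep (Red.bc (D.map f) Gj) := by
  have hlfp : ∀ {T : Scheme.{u}} (t : T ⟶ D.obj j), LocallyOfFinitePresentation (Red.bc t Gj).hom := fun t =>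
    inferInstanceAs (LocallyOfFinitePresentation (pullback.snd _ _))
  constructor
  · intro h
    haveI := hlfp (c.π.app j)
    haveI : CompactSpace c.pt := by
      haveI := Scheme.compactSpace_of_isLimit D c hc
      infer_instance
    haveI : CompactSpace ↥(((Functor.const I).obj c.pt).obj j) := ‹CompactSpace ↥c.pt›
    obtain ⟨ho, hcp⟩ := h.isOpen_and_isCompact
    let hP := IsPullback.of_hasPullback Gj.hom (c.π.app j)
    let F := diag D j Gj.hom
    let cF := cone D j Gj.hom hP
    haveI : CompactSpace Gj.left := QuasiCompact.compactSpace_of_compactSpace Gj.hom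
    haveI : QuasiSeparatedSpace Gj.left := quasiSeparatedSpace_of_quasiSeparated Gj.hom
    haveI (a b : Over j) (φ : a ⟶ b) : IsAffineHom (F.map φ) := isAffineHom_map D j Gj.hom φ
    haveI (a : Over j) : CompactSpace ↥(F.obj a) := compactSpace_obj D j Gj.hom a
    haveI (a : Over j) : QuasiSeparatedSpace ↥(F.obj a) := quasiSeparatedSpace_obj D j Gj.hom a
    obtain ⟨k, A, hA, hAU⟩ := exists_preimage_eq F cF (isLimitCone D j Gj.hom hP hc)
      (⟨SGA3x.neutralSet (Red.bc (c.π.app j) Gj), ho⟩ : (pullback Gj.hom (c.π.app j)).Opens) hcp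
    haveI := hlfp (D.map k.hom)
    haveI : QuasiSeparated (Red.bc (D.map k.hom) Gj).hom := inferInstanceAs (QuasiSeparated (pullback.snd _ _))
    let N : Set ↥(F.obj k) := SGA3x.neutralSet (Red.bc (D.map k.hom) Gj)
    have hN : IsConstructible N := GrothLib.Neutral.isConstructible_neutralSet _
    have hAc : IsConstructible (A : Set ↥(F.obj k)) := hA.isConstructible A.2
    have hNk : N = pullback.fst Gj.hom (D.map k.hom) ⁻¹' SGA3x.neutralSet Gj :=
      GrothLib.Neutral.neutralSet_bc Gj (D.map k.hom)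
    have hlim : cF.π.app k ⁻¹' N = cF.π.app k ⁻¹' (A : Set ↥(F.obj k)) := by
      rw [show cF.π.app k ⁻¹' (A : Set ↥(F.obj k)) = SGA3x.neutralSet (Red.bc (c.π.app j) Gj) from
        congr_arg SetLike.coe hAU, GrothLib.Neutral.neutralSet_bc,
        hNk]
      ext x
      exact iff_of_eq (congrArg (· ∈ SGA3x.neutralSet Gj) congr($(π_fst D j Gj.hom hP k) x))
    obtain ⟨l, φ, hl⟩ := exists_preimage_eq_empty F cF (isLimitCone D j Gj.hom hP hc) k
      ((N \ A) ∪ ((A : Set ↥(F.obj k)) \ N)) ((hN.sdiff hAc).union (hAc.sdiff hN)) (by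
        rw [Set.preimage_union, Set.preimage_diff, Set.preimage_diff, hlim, Set.diff_self, Set.empty_union])
    refine ⟨l.left, l.hom, NeutralRep.of_isOpen _ ?_⟩
    have e : F.map φ ⁻¹' N = F.map φ ⁻¹' (A : Set ↥(F.obj k)) := by
      ext x
      have hx : x ∉ F.map φ ⁻¹' ((N \ A) ∪ ((A : Set ↥(F.obj k)) \ N)) := by rw [hl]; exact id
      simp only [Set.mem_preimage, Set.mem_union, Set.mem_diff, SetLike.mem_coe] at hx ⊢
      tauto
    rw [GrothLib.Neutral.neutralSet_bc, ← map_fst D j Gj.hom φ, Scheme.Hom.comp_base, TopCat.coe_comp,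
      Set.preimage_comp]
    exact (hNk ▸ e : F.map φ ⁻¹' _ = _) ▸ A.2.preimage (F.map φ).continuous
  · rintro ⟨i, f, h⟩
    haveI := hlfp (D.map f)
    have ho := h.isOpen_and_isCompact.1
    refine NeutralRep.of_isOpen _ ?_
    rw [GrothLib.Neutral.neutralSet_bc] at ho ⊢
    have e : pullback.map Gj.hom (c.π.app j) Gj.hom (D.map f) (𝟙 _) (c.π.app i) (𝟙 _) (by simp)
        (by rw [Category.comp_id, c.w]) ≫ pullback.fst Gj.hom (D.map f) = pullback.fst Gj.hom (c.π.app j) := by
      simp [pullback.map]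
    rw [← e, Scheme.Hom.comp_base, TopCat.coe_comp, Set.preimage_comp]
    exact ho.preimage (Scheme.Hom.continuous _)

end GrothLib.GrpLim14
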