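import Groth.Agent.Lib.GrpLim14.Torsor
import Groth.Agent.Lib.FppfSource.Scheme
import Groth.Agent.Lib.Frob.Morphisms
import Groth.Prelude

/-!
# Quotients by equivalence relations over a limit
-/

set_option autoImplicit false
set_option backward.isDefEq.respectTransparency false
set_option linter.style.haveILetI false
universe u

open CategoryTheory CategoryTheory.Limits AlgebraicGeometry
open MonoidalCategory CartesianMonoidalCategory

noncomputable section

namespace GrothLib.GrpLim14

variable {S S' : Scheme.{u}}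

/-- The quotient is representable. -/
def HasQuot {R X : Over S} (s t : R ⟶ X) : Prop :=
  ∃ (Y : Over S) (p : X ⟶ Y), Flat p.left ∧ Surjective p.left ∧ LocallyOfFinitePresentation p.left ∧ IsPullback s t p p

theorem HasQuot.map {R X : Over S} {s t : R ⟶ X} (h : HasQuot s t) (g : S' ⟶ S) :
    HasQuot ((Over.pullback g).map s) ((Over.pullback g).map t) := by
  obtain ⟨Y, p, h₁, h₂, h₃, h₄⟩ := h
  exact ⟨_, (Over.pullback g).map p, MorphismProperty.of_isPullback (isPullback_left g p) h₁,
    MorphismProperty.of_isPullback (P := @Surjective) (isPullback_left g p) h₂,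
    MorphismProperty.of_isPullback (isPullback_left g p) h₃, h₄.map (Over.pullback g)⟩

theorem HasQuot.of_iso {R X R' X' : Over S} {s t : R ⟶ X} {s' t' : R' ⟶ X'} (h : HasQuot s t)
    (eR : R ≅ R') (eX : X ≅ X') (hs : s ≫ eX.hom = eR.hom ≫ s') (ht : t ≫ eX.hom = eR.hom ≫ t') :
    HasQuot s' t' := by
  obtain ⟨Y, p, h₁, h₂, h₃, h₄⟩ := h
  refine ⟨Y, eX.inv ≫ p, ?_, ?_, ?_, ?_⟩
  · rwa [Over.comp_left, MorphismProperty.cancel_left_of_respectsIso @Flat]
  · rwa [Over.comp_left, MorphismProperty.cancel_left_of_respectsIso @Surjective]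
  · rwa [Over.comp_left, MorphismProperty.cancel_left_of_respectsIso @LocallyOfFinitePresentation]
  · exact h₄.of_iso eR eX eX (Iso.refl Y) hs ht (by simp) (by simp)

theorem HasQuot.of_comp {S'' : Scheme.{u}} {f : S' ⟶ S} {g : S'' ⟶ S'} {h : S'' ⟶ S} (hh : g ≫ f = h)
    {R X : Over S} {s t : R ⟶ X} (hq : HasQuot ((Over.pullback f).map s) ((Over.pullback f).map t)) :
    HasQuot ((Over.pullback h).map s) ((Over.pullback h).map t) :=
  (hq.map g).of_iso (E hh R) (E hh X) (by rw [map_E hh s]; simp) (by rw [map_E hh t]; simp)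

theorem HasQuot.of_map {S'' : Scheme.{u}} {f : S' ⟶ S} {g : S'' ⟶ S'} {h : S'' ⟶ S} (hh : g ≫ f = h)
    {R X : Over S} {s t : R ⟶ X}
    (hq : HasQuot ((Over.pullback g).map ((Over.pullback f).map s)) ((Over.pullback g).map ((Over.pullback f).map t))) :
    HasQuot ((Over.pullback h).map s) ((Over.pullback h).map t) :=
  hq.of_iso (E hh R) (E hh X) (by rw [map_E hh s]; simp) (by rw [map_E hh t]; simp)

/-- The target of a quotient map is of finite presentation. -/
theorem quot_fp {R X Y : Over S} {s t : R ⟶ X} {p : X ⟶ Y} [Flat p.left] [Surjective p.left]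
    [LocallyOfFinitePresentation p.left] (sq : IsPullback s t p p)
    [QuasiCompact R.hom] [LocallyOfFinitePresentation X.hom] [QuasiCompact X.hom] [QuasiSeparated X.hom] :
    LocallyOfFinitePresentation Y.hom ∧ QuasiCompact Y.hom ∧ QuasiSeparated Y.hom ∧ QuasiCompact p.left := by
  haveI : QuasiCompact (t.left ≫ X.hom) := by rw [Over.w t]; infer_instance
  haveI : QuasiCompact t.left := QuasiCompact.of_comp t.left X.hom
  have sq' : IsPullback s.left t.left p.left p.left := sq.map (Over.forget S)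
  haveI : QuasiCompact p.left := by
    refine ⟨fun U hU hUc => ?_⟩
    obtain ⟨V, hV, e⟩ := p.left.isOpenMap.exists_opens_image_eq_of_prespectralSpace p.left.continuous
      (fun y _ => p.left.surjective y) hU hUc
    have h := (t.left.isCompact_preimage (U := V) hV).image s.left.continuous
    convert h
    ext x
    constructor
    · intro hx
      obtain ⟨v, hv, hvx⟩ : p.left x ∈ p.left '' (V : Set X.left) := by rw [e]; exact hx
      obtain ⟨r, hr₁, hr₂⟩ := Scheme.exists_preimage_of_isPullback sq' x v hvx.symm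
      exact ⟨r, by simpa [hr₂] using hv, hr₁⟩
    · rintro ⟨r, hr, rfl⟩
      have : p.left (s.left r) = p.left (t.left r) := congr($(sq'.w).base r)
      show p.left (s.left r) ∈ U
      rw [this, ← e]
      exact ⟨_, hr, rfl⟩
  haveI : LocallyOfFinitePresentation (p.left ≫ Y.hom) := by rw [Over.w p]; infer_instance
  haveI : QuasiCompact (p.left ≫ Y.hom) := by rw [Over.w p]; infer_instance
  haveI : QuasiSeparated (p.left ≫ Y.hom) := by rw [Over.w p]; infer_instance
  exact ⟨GrothLib.FppfSource.fppfSourceDescends_lfp p.left Y.hom ‹_› ‹_› ‹_› inferInstance,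
    GrothLib.Frob.quasiCompact_of_comp_surjective p.left Y.hom,
    GrothLib.Frob.quasiSeparated_of_comp_surjective p.left Y.hom, ‹_›⟩

variable {I : Type u} [SmallCategory I] (D : I ⥤ Scheme.{u}) {c : Cone D} (hc : IsLimit c) [IsCofiltered I]
  [∀ (i i' : I) (f : i ⟶ i'), IsAffineHom (D.map f)] [∀ i, CompactSpace (D.obj i)]
  [∀ i, QuasiSeparatedSpace (D.obj i)]

include hc in
/-- A commutative square which is cartesian over the limit is cartesian over a stage. -/
theorem exists_isPullback {k : I} {R X Y : Over (D.obj k)} {s t : R ⟶ X} {p : X ⟶ Y} (w : s ≫ p = t ≫ p)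
    [LocallyOfFinitePresentation R.hom] [QuasiCompact R.hom] [QuasiSeparated R.hom]
    [LocallyOfFinitePresentation X.hom] [QuasiCompact X.hom] [QuasiSeparated X.hom]
    [LocallyOfFinitePresentation Y.hom] [QuasiCompact Y.hom] [QuasiSeparated Y.hom]
    (h : IsPullback ((Over.pullback (c.π.app k)).map s) ((Over.pullback (c.π.app k)).map t)
      ((Over.pullback (c.π.app k)).map p) ((Over.pullback (c.π.app k)).map p)) :
    ∃ (i : I) (f : i ⟶ k), IsPullback ((Over.pullback (D.map f)).map s) ((Over.pullback (D.map f)).map t)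
      ((Over.pullback (D.map f)).map p) ((Over.pullback (D.map f)).map p) := by
  haveI : HasPullback p p := inferInstance
  obtain ⟨_, _, _, _, _⟩ := stage_facts D p
  haveI : QuasiCompact p.left := by
    haveI : QuasiCompact (p.left ≫ Y.hom) := by rw [Over.w p]; infer_instance
    exact QuasiCompact.of_comp p.left Y.hom
  haveI : QuasiSeparated p.left := by
    haveI : QuasiSeparated (p.left ≫ Y.hom) := by rw [Over.w p]; infer_instance
    exact QuasiSeparated.of_comp p.left Y.hom
  have sqW := IsPullback.of_hasPullback p p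
  have sqW' : IsPullback (pullback.fst p p).left (pullback.snd p p).left p.left p.left :=
    sqW.map (Over.forget _)
  haveI : LocallyOfFinitePresentation (pullback.fst p p).left := MorphismProperty.of_isPullback sqW'.flip ‹_›
  haveI : QuasiCompact (pullback.fst p p).left := MorphismProperty.of_isPullback sqW'.flip ‹_›
  haveI : QuasiSeparated (pullback.fst p p).left := MorphismProperty.of_isPullback sqW'.flip ‹_›
  haveI : LocallyOfFinitePresentation (pullback p p).hom := by rw [← Over.w (pullback.fst p p)]; infer_instance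
  haveI : QuasiCompact (pullback p p).hom := by rw [← Over.w (pullback.fst p p)]; infer_instance
  haveI : QuasiSeparated (pullback p p).hom := by rw [← Over.w (pullback.fst p p)]; infer_instance
  have hF := sqW.map (Over.pullback (c.π.app k))
  haveI : IsIso ((Over.pullback (c.π.app k)).map (pullback.lift s t w)) := by
    rw [show (Over.pullback (c.π.app k)).map (pullback.lift s t w) = (h.isoIsPullback _ _ hF).hom by
      apply hF.hom_ext
      · rw [IsPullback.isoIsPullback_hom_fst, ← Functor.map_comp, pullback.lift_fst]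
      · rw [IsPullback.isoIsPullback_hom_snd, ← Functor.map_comp, pullback.lift_snd]]
    infer_instance
  obtain ⟨i, f, hi⟩ := exists_isIso_of_map D hc (pullback.lift s t w)
  refine ⟨i, f, (sqW.map (Over.pullback (D.map f))).of_iso
    (asIso ((Over.pullback (D.map f)).map (pullback.lift s t w))).symm (Iso.refl _) (Iso.refl _) (Iso.refl _)
    ?_ ?_ (by simp) (by simp)⟩
  · simp [← Functor.map_comp]
  · simp [← Functor.map_comp]

include hc in
/-- **The quotient is representable over the limit iff it is over a stage.** -/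
theorem hasQuot_iff {j : I} {R X : Over (D.obj j)} (s t : R ⟶ X)
    [LocallyOfFinitePresentation R.hom] [QuasiCompact R.hom] [QuasiSeparated R.hom]
    [LocallyOfFinitePresentation X.hom] [QuasiCompact X.hom] [QuasiSeparated X.hom] :
    HasQuot ((Over.pullback (c.π.app j)).map s) ((Over.pullback (c.π.app j)).map t) ↔
      ∃ (i : I) (f : i ⟶ j), HasQuot ((Over.pullback (D.map f)).map s) ((Over.pullback (D.map f)).map t) := by
  refine ⟨?_, fun ⟨i, f, h⟩ => h.of_comp (c.w f)⟩
  rintro ⟨Y, p, _, _, _, sq⟩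
  obtain ⟨_, _, _⟩ := fp_map (c.π.app j) R
  obtain ⟨_, _, _⟩ := fp_map (c.π.app j) X
  obtain ⟨_, _, _, _⟩ := quot_fp sq
  obtain ⟨i₁, H, φ, _, _, _⟩ := exists_model_over Y hc
  let k₀ := IsCofiltered.min i₁ j
  let a := IsCofiltered.minToLeft i₁ j
  let b := IsCofiltered.minToRight i₁ j
  let φ₁ := shiftIso Y a φ
  obtain ⟨_, _, _⟩ := fp_map (D.map b) X
  obtain ⟨_, _, _⟩ := fp_map (D.map a) H
  obtain ⟨k, g, p', hp'⟩ := exists_descend D hc ((Over.pullback (D.map b)).obj X) ((Over.pullback (D.map a)).obj H)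
    ((E (c.w b) X).hom ≫ p ≫ φ₁.hom)
  -- everything at stage `k`
  let Y₁ := (Over.pullback (D.map g)).obj ((Over.pullback (D.map a)).obj H)
  let X₁ := (Over.pullback (D.map g)).obj ((Over.pullback (D.map b)).obj X)
  let R₁ := (Over.pullback (D.map g)).obj ((Over.pullback (D.map b)).obj R)
  obtain ⟨_, _, _⟩ := fp_map (D.map g) ((Over.pullback (D.map a)).obj H)
  obtain ⟨_, _, _⟩ := fp_map (D.map g) ((Over.pullback (D.map b)).obj X)
  obtain ⟨_, _, _⟩ := fp_map (D.map b) R
  obtain ⟨_, _, _⟩ := fp_map (D.map g) ((Over.pullback (D.map b)).obj R)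
  let p₁ : X₁ ⟶ Y₁ := p'
  let ψ : Y ≅ (Over.pullback (c.π.app k)).obj Y₁ := shiftIso Y g φ₁
  let εX : (Over.pullback (c.π.app k)).obj X₁ ≅ (Over.pullback (c.π.app j)).obj X := E (c.w g) _ ≪≫ E (c.w b) X
  let εR : (Over.pullback (c.π.app k)).obj R₁ ≅ (Over.pullback (c.π.app j)).obj R := E (c.w g) _ ≪≫ E (c.w b) R
  let s₁ : R₁ ⟶ X₁ := (Over.pullback (D.map g)).map ((Over.pullback (D.map b)).map s)
  let t₁ : R₁ ⟶ X₁ := (Over.pullback (D.map g)).map ((Over.pullback (D.map b)).map t)
  have hp₁ : (Over.pullback (c.π.app k)).map p₁ = εX.hom ≫ p ≫ ψ.hom := by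
    simp only [p₁, hp', εX, ψ, shiftIso, Iso.trans_hom, Iso.symm_hom, Category.assoc]
  have hs : (Over.pullback (c.π.app k)).map s₁ = εR.hom ≫ (Over.pullback (c.π.app j)).map s ≫ εX.inv := by
    simp only [s₁, εR, εX, map_E (c.w g), map_E (c.w b), Iso.trans_hom, Iso.trans_inv, Category.assoc]
  have ht : (Over.pullback (c.π.app k)).map t₁ = εR.hom ≫ (Over.pullback (c.π.app j)).map t ≫ εX.inv := by
    simp only [t₁, εR, εX, map_E (c.w g), map_E (c.w b), Iso.trans_hom, Iso.trans_inv, Category.assoc]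
  haveI : Flat ((Over.pullback (c.π.app k)).map p₁).left := by
    rw [hp₁, Over.comp_left, Over.comp_left]; infer_instance
  haveI : Surjective ((Over.pullback (c.π.app k)).map p₁).left := by
    rw [hp₁, Over.comp_left, Over.comp_left, MorphismProperty.cancel_left_of_respectsIso @Surjective,
      MorphismProperty.cancel_right_of_respectsIso @Surjective]
    assumption
  obtain ⟨k₁, g₁, h₁⟩ := exists_flat_of_map D hc p₁
  obtain ⟨k₂, g₂, h₂⟩ := exists_surjective_of_map D hc p₁
  obtain ⟨k₃, g₃, h₃⟩ := exists_map_eq D hc R₁ Y₁ (s₁ ≫ p₁) (t₁ ≫ p₁) (by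
    rw [Functor.map_comp, Functor.map_comp, hp₁, hs, ht]
    simp only [Category.assoc, Iso.inv_hom_id_assoc, sq.w_assoc])
  obtain ⟨m₁, a₁, a₂, w₁⟩ := IsCofiltered.cospan g₁ g₂
  obtain ⟨m, b₁, b₃, w₂⟩ := IsCofiltered.cospan (a₁ ≫ g₁) g₃
  let r := b₁ ≫ a₁ ≫ g₁
  have h₁' : Flat ((Over.pullback (D.map r)).map p₁).left :=
    prop_map_comp @Flat (g := D.map (b₁ ≫ a₁)) (by rw [← D.map_comp]; simp [r]) p₁ h₁
  have h₂' : Surjective ((Over.pullback (D.map r)).map p₁).left :=
    prop_map_comp @Surjective (g := D.map (b₁ ≫ a₂)) (by rw [← D.map_comp]; simp [r, w₁]) p₁ h₂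
  have h₃' := map_eq_of_comp (g := D.map b₃) (h := D.map r) ((D.map_comp _ _).symm.trans (congrArg D.map w₂.symm)) h₃
  obtain ⟨_, _, _⟩ := fp_map (D.map r) R₁
  obtain ⟨_, _, _⟩ := fp_map (D.map r) X₁
  obtain ⟨_, _, _⟩ := fp_map (D.map r) Y₁
  let s₂ := (Over.pullback (D.map r)).map s₁
  let t₂ := (Over.pullback (D.map r)).map t₁
  let p₂ := (Over.pullback (D.map r)).map p₁
  have w : s₂ ≫ p₂ = t₂ ≫ p₂ := by
    simp only [s₂, t₂, p₂, ← Functor.map_comp]
    exact h₃'
  have hpb : IsPullback ((Over.pullback (c.π.app m)).map s₂) ((Over.pullback (c.π.app m)).map t₂)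
      ((Over.pullback (c.π.app m)).map p₂) ((Over.pullback (c.π.app m)).map p₂) := by
    refine sq.of_iso ((E (c.w r) _) ≪≫ εR).symm ((E (c.w r) _) ≪≫ εX).symm ((E (c.w r) _) ≪≫ εX).symm
      (ψ ≪≫ (E (c.w r) Y₁).symm) ?_ ?_ ?_ ?_ <;>
      simp only [s₂, t₂, p₂, map_E (c.w r), hs, ht, hp₁, Iso.symm_hom, Iso.trans_hom, Iso.trans_inv, Category.assoc,
        Iso.inv_hom_id_assoc, Iso.inv_hom_id, Category.comp_id]
  obtain ⟨i, f, hi⟩ := exists_isPullback D hc w hpb
  refine ⟨i, ((f ≫ r) ≫ g) ≫ b, ?_⟩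
  have hq : HasQuot ((Over.pullback (D.map f)).map s₂) ((Over.pullback (D.map f)).map t₂) :=
    ⟨_, (Over.pullback (D.map f)).map p₂, MorphismProperty.of_isPullback (isPullback_left _ _) h₁',
      MorphismProperty.of_isPullback (P := @Surjective) (isPullback_left _ _) h₂',
      (stage_facts D p₂).2.2.2.2 |> MorphismProperty.of_isPullback (isPullback_left _ _), hi⟩
  have e₁ : D.map f ≫ D.map r = D.map (f ≫ r) := (D.map_comp _ _).symm
  have hq₁ := hq.of_iso (E e₁ R₁) (E e₁ X₁) (s' := (Over.pullback (D.map (f ≫ r))).map s₁)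
    (t' := (Over.pullback (D.map (f ≫ r))).map t₁)
    (by rw [show (Over.pullback (D.map f)).map s₂ = _ from map_E e₁ s₁]; simp)
    (by rw [show (Over.pullback (D.map f)).map t₂ = _ from map_E e₁ t₁]; simp)
  exact (hq₁.of_map (D.map_comp (f ≫ r) g).symm).of_map (D.map_comp ((f ≫ r) ≫ g) b).symm

end GrothLib.GrpLim14
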