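import Groth.Agent.Lib.GrpLim14.Descend
import Groth.Agent.Lib.LimDesc.Inj
import Groth.Agent.Lib.FlatLimit.Scheme
import Groth.Agent.S2075

/-!
# Properties of morphisms over a stage of a limit
-/

set_option autoImplicit false
set_option backward.isDefEq.respectTransparency false
set_option linter.style.haveILetI false
universe u

open CategoryTheory CategoryTheory.Limits AlgebraicGeometry
open MonoidalCategory CartesianMonoidalCategory

noncomputable section

namespace GrothLib.GrpLim14

variable {S S' S'' : Scheme.{u}}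

/-- The base change of a morphism over the base is a base change of it. -/
theorem isPullback_left (g : S' ⟶ S) {A B : Over S} (v : A ⟶ B) :
    IsPullback (pullback.fst A.hom g) ((Over.pullback g).map v).left v.left (pullback.fst B.hom g) := by
  refine IsPullback.of_bot ?_ (pullback.lift_fst _ _ _).symm (IsPullback.of_hasPullback B.hom g)
  rw [Over.w v]
  convert IsPullback.of_hasPullback A.hom g using 1
  exact pullback.lift_snd _ _ _

theorem fp_map (g : S' ⟶ S) (A : Over S) [LocallyOfFinitePresentation A.hom] [QuasiCompact A.hom] [QuasiSeparated A.hom] :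
    LocallyOfFinitePresentation ((Over.pullback g).obj A).hom ∧ QuasiCompact ((Over.pullback g).obj A).hom ∧
      QuasiSeparated ((Over.pullback g).obj A).hom :=
  ⟨inferInstanceAs (LocallyOfFinitePresentation (pullback.snd _ _)),
    inferInstanceAs (QuasiCompact (pullback.snd _ _)), inferInstanceAs (QuasiSeparated (pullback.snd _ _))⟩

/-- A property stable under base change is transitive in the base. -/
theorem prop_map_comp (P : MorphismProperty Scheme.{u}) [P.IsStableUnderBaseChange] {f : S' ⟶ S} {g : S'' ⟶ S'}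
    {h : S'' ⟶ S} (hh : g ≫ f = h) {A B : Over S} (v : A ⟶ B) (hv : P ((Over.pullback f).map v).left) :
    P ((Over.pullback h).map v).left := by
  have := MorphismProperty.of_isPullback (isPullback_left g ((Over.pullback f).map v)) hv
  rw [map_E' hh v, Over.comp_left, Over.comp_left,
    MorphismProperty.cancel_left_of_respectsIso P, MorphismProperty.cancel_right_of_respectsIso P]
  exact this

theorem prop_map_iff (P : MorphismProperty Scheme.{u}) [P.IsStableUnderBaseChange] {f : S' ⟶ S} {g : S'' ⟶ S'}
    {h : S'' ⟶ S} (hh : g ≫ f = h) {A B : Over S} (v : A ⟶ B) :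
    P ((Over.pullback g).map ((Over.pullback f).map v)).left ↔ P ((Over.pullback h).map v).left := by
  rw [map_E' hh v, Over.comp_left, Over.comp_left,
    MorphismProperty.cancel_left_of_respectsIso P, MorphismProperty.cancel_right_of_respectsIso P]

theorem isIso_map_iff {f : S' ⟶ S} {g : S'' ⟶ S'} {h : S'' ⟶ S} (hh : g ≫ f = h) {A B : Over S} (v : A ⟶ B) :
    IsIso ((Over.pullback g).map ((Over.pullback f).map v)) ↔ IsIso ((Over.pullback h).map v) := by
  rw [map_E' hh v, isIso_comp_left_iff, isIso_comp_right_iff]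

theorem isIso_map_comp {f : S' ⟶ S} {g : S'' ⟶ S'} {h : S'' ⟶ S} (hh : g ≫ f = h) {A B : Over S} (v : A ⟶ B)
    [IsIso ((Over.pullback f).map v)] : IsIso ((Over.pullback h).map v) :=
  (isIso_map_iff hh v).1 inferInstance

variable {I : Type u} [SmallCategory I] (D : I ⥤ Scheme.{u}) {c : Cone D} (hc : IsLimit c) [IsCofiltered I]
  [∀ (i i' : I) (f : i ⟶ i'), IsAffineHom (D.map f)] [∀ i, CompactSpace (D.obj i)]
  [∀ i, QuasiSeparatedSpace (D.obj i)]

variable {i : I} {A B : Over (D.obj i)}
  [LocallyOfFinitePresentation A.hom] [QuasiCompact A.hom] [QuasiSeparated A.hom]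
  [LocallyOfFinitePresentation B.hom] [QuasiCompact B.hom] [QuasiSeparated B.hom]

include hc in
/-- A morphism which is invertible over the limit is invertible over a stage. -/
theorem exists_isIso_of_map (v : A ⟶ B) [IsIso ((Over.pullback (c.π.app i)).map v)] :
    ∃ (k : I) (f : k ⟶ i), IsIso ((Over.pullback (D.map f)).map v) := by
  obtain ⟨k, f, w, hw⟩ := exists_descend D hc (j := i) B A (inv ((Over.pullback (c.π.app i)).map v))
  have key := map_E (c.w f) v
  obtain ⟨_, _, _⟩ := fp_map (D.map f) A
  obtain ⟨_, _, _⟩ := fp_map (D.map f) B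
  obtain ⟨i₃, f₃, h3⟩ := exists_map_eq D hc _ ((Over.pullback (D.map f)).obj A)
    ((Over.pullback (D.map f)).map v ≫ w) (𝟙 _) (by
      rw [Functor.map_comp, key, hw, CategoryTheory.Functor.map_id]
      simp)
  obtain ⟨i₄, f₄, h4⟩ := exists_map_eq D hc _ ((Over.pullback (D.map f)).obj B)
    (w ≫ (Over.pullback (D.map f)).map v) (𝟙 _) (by
      rw [Functor.map_comp, key, hw, CategoryTheory.Functor.map_id]
      simp)
  obtain ⟨i₅, g₃, g₄, hsq⟩ := IsCofiltered.cospan f₃ f₄
  have h3' := map_eq_of_comp (f := D.map f₃) (g := D.map g₃) (h := D.map (g₃ ≫ f₃)) (D.map_comp _ _).symm h3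
  have h4' := map_eq_of_comp (f := D.map f₄) (g := D.map g₄) (h := D.map (g₃ ≫ f₃))
    ((D.map_comp _ _).symm.trans (congrArg D.map hsq.symm)) h4
  refine ⟨i₅, (g₃ ≫ f₃) ≫ f, (isIso_map_iff (D.map_comp (g₃ ≫ f₃) f).symm v).1 ?_⟩
  exact ⟨(Over.pullback (D.map (g₃ ≫ f₃))).map w,
      (((Over.pullback (D.map (g₃ ≫ f₃))).map_comp _ _).symm.trans h3').trans ((Over.pullback (D.map (g₃ ≫ f₃))).map_id _),
      (((Over.pullback (D.map (g₃ ≫ f₃))).map_comp _ _).symm.trans h4').trans ((Over.pullback (D.map (g₃ ≫ f₃))).map_id _)⟩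

omit [IsCofiltered I] [∀ (i i' : I) (f : i ⟶ i'), IsAffineHom (D.map f)] in
theorem stage_facts (v : A ⟶ B) : CompactSpace A.left ∧ QuasiSeparatedSpace A.left ∧ CompactSpace B.left ∧
    QuasiSeparatedSpace B.left ∧ LocallyOfFinitePresentation v.left := by
  refine ⟨QuasiCompact.compactSpace_of_compactSpace A.hom, quasiSeparatedSpace_of_quasiSeparated A.hom,
    QuasiCompact.compactSpace_of_compactSpace B.hom, quasiSeparatedSpace_of_quasiSeparated B.hom, ?_⟩
  exact DiagGrp.lfp_of_comp_of_lft v.left B.hom (by rw [Over.w v]; infer_instance) inferInstance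

include hc in
/-- A morphism which is flat over the limit is flat over a stage. -/
theorem exists_flat_of_map (v : A ⟶ B) [Flat ((Over.pullback (c.π.app i)).map v).left] :
    ∃ (k : I) (f : k ⟶ i), Flat ((Over.pullback (D.map f)).map v).left := by
  obtain ⟨_, _, _, _, _⟩ := stage_facts D v
  obtain ⟨k, f, Xi, Yi, fi, gi, pY, pX, hY, hX, hfi⟩ := Groth.Agent.S2075.result D c hc i v.left B.hom
    ((Over.pullback (c.π.app i)).map v).left _ _ _ (IsPullback.of_hasPullback B.hom (c.π.app i))
    (isPullback_left (c.π.app i) v)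
  refine ⟨k, f, ?_⟩
  let e := (IsPullback.of_hasPullback B.hom (D.map f)).isoIsPullback _ _ hY
  have he : e.hom ≫ pY = pullback.fst _ _ := IsPullback.isoIsPullback_hom_fst _ _ _ _
  have sq := isPullback_left (D.map f) v
  have big : IsPullback (pullback.fst A.hom (D.map f)) ((Over.pullback (D.map f)).map v).left v.left (e.hom ≫ pY) := by
    rw [he]; exact sq
  have := MorphismProperty.of_isPullback (P := @Flat) (IsPullback.of_right
    (h₁₁ := hX.lift (pullback.fst A.hom (D.map f)) (((Over.pullback (D.map f)).map v).left ≫ e.hom)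
      (by rw [Category.assoc]; exact big.w)) (v₁₁ := ((Over.pullback (D.map f)).map v).left)
    (by rw [hX.lift_fst]; exact big) (hX.lift_snd _ _ _) hX) hfi
  exact this

include hc in
/-- A morphism which is surjective over the limit is surjective over a stage. -/
theorem exists_surjective_of_map (v : A ⟶ B) [Surjective ((Over.pullback (c.π.app i)).map v).left] :
    ∃ (k : I) (f : k ⟶ i), Surjective ((Over.pullback (D.map f)).map v).left := by
  obtain ⟨_, _, _, _, _⟩ := stage_facts D v
  obtain ⟨j, hj⟩ := GrothLib.LimDesc.exists_surjective D hc v.left B.hom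
    (IsPullback.of_hasPullback B.hom (c.π.app i)) (isPullback_left (c.π.app i) v)
  refine ⟨j.left, j.hom, ?_⟩
  have sq := GrothLib.LimDesc.isPullback_mapNat D i B.hom (v.left ≫ B.hom) v.left rfl j
  have sq' := isPullback_left (D.map j.hom) v
  exact MorphismProperty.of_isPullback (P := @Surjective) (IsPullback.of_right
    (h₁₁ := sq.lift (pullback.fst A.hom (D.map j.hom)) ((Over.pullback (D.map j.hom)).map v).left sq'.w)
    (h₁₂ := pullback.fst (v.left ≫ B.hom) (D.map j.hom)) (h₂₁ := 𝟙 _)
    (v₁₁ := ((Over.pullback (D.map j.hom)).map v).left)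
    (by rw [Category.id_comp, sq.lift_fst]; exact sq') (by rw [sq.lift_snd, Category.comp_id]) sq) hj

end GrothLib.GrpLim14
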